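import Cfsg.Agent.LY.HK0

set_option autoImplicit false
set_option maxRecDepth 100000
set_option linter.all false
set_option Elab.async false

namespace CfsgLY

open CfsgH5 CfsgH6 Subgroup MulAction Pointwise

noncomputable section

theorem hval3 : C16.Mem RH1 ⊤ 1150669704793161728 := MC.mem_units (PP.mc P16_ok) (PP.canF_sound P16_ok) hchk2
theorem hval22 : CP.Mem RH2 ⊤ 1150669704793161728 := (GC.Mem.ins' hpm20 hchk21 (GC.Mem.ins' hpm18 hchk19 (GC.Mem.ins' hpm16 hchk17 (GC.Mem.ins' hpm14 hchk15 (GC.Mem.ins' hpm12 hchk13 (GC.Mem.ins' hpm10 hchk11 (GC.Mem.ins' hpm8 hchk9 (GC.Mem.ins' hpm6 hchk7 (GC.Mem.ins' hpm4 hchk5 (GC.Mem.zero ⊤)))))))))).sub (by decide +kernel)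
theorem vH0 : CH0.Mem RH ⊤ 1150669704793161728 := (GC.mem_prod hval3 hval22).top
theorem vH : CH.Mem RH ⊤ 1150669704793161728 := sub_mem vH0.gen
theorem topH : CH.gen RH 1150669704793161728 = ⊤ := sub_top vH0
theorem Hh_m0 : CH.Mem RH (CH.gen RH 1150669704793161728) 1150669704793161728 := GC.Mem.gen vH
theorem hpt23e : ∃ x, HP.Rep hpt23c x := via_rep _ _ (via_rep _ _ (act2_rep (n := 11) (d := 4) (by decide) (by decide) (c := 0x100) (by decide +kernel)))
noncomputable def hpt23 := Classical.choose hpt23e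
theorem hpt23r : HP.Rep hpt23c hpt23 := Classical.choose_spec hpt23e
theorem hpt24e : ∃ x, HP.Rep hpt24c x := via_rep _ _ (via_rep _ _ (act2_rep (n := 11) (d := 4) (by decide) (by decide) (c := 0x200) (by decide +kernel)))
noncomputable def hpt24 := Classical.choose hpt24e
theorem hpt24r : HP.Rep hpt24c hpt24 := Classical.choose_spec hpt24e
theorem hpt25e : ∃ x, HP.Rep hpt25c x := via_rep _ _ (via_rep _ _ (act2_rep (n := 11) (d := 4) (by decide) (by decide) (c := 0x400) (by decide +kernel)))
noncomputable def hpt25 := Classical.choose hpt25e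
theorem hpt25r : HP.Rep hpt25c hpt25 := Classical.choose_spec hpt25e
theorem hpt26e : ∃ x, HP.Rep hpt26c x := via_rep _ _ (via_rep _ _ (act2_rep (n := 11) (d := 4) (by decide) (by decide) (c := 0x1) (by decide +kernel)))
noncomputable def hpt26 := Classical.choose hpt26e
theorem hpt26r : HP.Rep hpt26c hpt26 := Classical.choose_spec hpt26e
theorem hpt27e : ∃ x, HP.Rep hpt27c x := via_rep _ _ (via_rep _ _ (act2_rep (n := 11) (d := 4) (by decide) (by decide) (c := 0x2) (by decide +kernel)))
noncomputable def hpt27 := Classical.choose hpt27e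
theorem hpt27r : HP.Rep hpt27c hpt27 := Classical.choose_spec hpt27e
theorem hpt28e : ∃ x, HP.Rep hpt28c x := via_rep _ _ (via_rep _ _ (act2_rep (n := 11) (d := 4) (by decide) (by decide) (c := 0x8) (by decide +kernel)))
noncomputable def hpt28 := Classical.choose hpt28e
theorem hpt28r : HP.Rep hpt28c hpt28 := Classical.choose_spec hpt28e
theorem hpt29e : ∃ x, HP.Rep hpt29c x := via_rep _ _ (via_rep _ _ (act2_rep (n := 11) (d := 4) (by decide) (by decide) (c := 0x4) (by decide +kernel)))
noncomputable def hpt29 := Classical.choose hpt29e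
theorem hpt29r : HP.Rep hpt29c hpt29 := Classical.choose_spec hpt29e
theorem hpt30e : ∃ x, HP.Rep hpt30c x := via_rep _ _ (via_rep _ _ (act2_rep (n := 11) (d := 4) (by decide) (by decide) (c := 0x10) (by decide +kernel)))
noncomputable def hpt30 := Classical.choose hpt30e
theorem hpt30r : HP.Rep hpt30c hpt30 := Classical.choose_spec hpt30e
theorem hpt31e : ∃ x, HP.Rep hpt31c x := via_rep _ _ (via_rep _ _ (act2_rep (n := 11) (d := 4) (by decide) (by decide) (c := 0x20) (by decide +kernel)))
noncomputable def hpt31 := Classical.choose hpt31e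
theorem hpt31r : HP.Rep hpt31c hpt31 := Classical.choose_spec hpt31e
theorem hpt32e : ∃ x, HV.Rep hpt32c x := via_rep _ _ (PP.exists_vec P16_ok (c := 0x4000300030000000300000001000300030003000300000002000000040001) (by decide +kernel))
noncomputable def hpt32 := Classical.choose hpt32e
theorem hpt32r : HV.Rep hpt32c hpt32 := Classical.choose_spec hpt32e
theorem hHh_s0_35 : CH.Mem RH (CH.gen RH 1150669704793161728) 75557861474114509734398 := Hh_m0.slp' hchk34
theorem Hh_c0i : CH.Mem RH (CH.gen RH 1150669704793161728) 75556132091857599463424 := hHh_s0_35.sub hchk36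
theorem Hh_c0m : CH.Mem RH (CH.gen RH 75556132091857599463424) 75556132091857599463424 := Hh_c0i.gen
theorem hfx38 : CH.gen RH 75556132091857599463424 ≤ stabilizer _ hpt23 := Act.fix_sound Hh_c0i.top hpt23r hchk37
theorem hcov45 : Cov (CH.gen RH 1150669704793161728) (CH.wds RH [0]) hpt23 11 := Act.cov_of_seen (Act.pieces_sound hHh_s0_35 hHh_s0_35.top hpt23r hchk43) hchk44
theorem Hh_c1i : CH.Mem RH (CH.gen RH 75556132091857599463424) 75555557882905109725184 := Hh_c0m.sub hchk46
theorem Hh_c1m : CH.Mem RH (CH.gen RH 75555557882905109725184) 75555557882905109725184 := Hh_c1i.gen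
theorem hfx48 : CH.gen RH 75555557882905109725184 ≤ stabilizer _ hpt24 := Act.fix_sound Hh_c1i.top hpt24r hchk47
theorem hcov55 : Cov (CH.gen RH 75556132091857599463424) (CH.wds RH [0]) hpt24 10 := Act.cov_of_seen (Act.pieces_sound Hh_c0m Hh_c0m.top hpt24r hchk53) hchk54
theorem Hh_c2i : CH.Mem RH (CH.gen RH 75555557882905109725184) 75553252039895896031232 := Hh_c1m.sub hchk56
theorem Hh_c2m : CH.Mem RH (CH.gen RH 75553252039895896031232) 75553252039895896031232 := Hh_c2i.gen
theorem hfx58 : CH.gen RH 75553252039895896031232 ≤ stabilizer _ hpt25 := Act.fix_sound Hh_c2i.top hpt25r hchk57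
theorem hcov65 : Cov (CH.gen RH 75555557882905109725184) (CH.wds RH [0]) hpt25 9 := Act.cov_of_seen (Act.pieces_sound Hh_c1m Hh_c1m.top hpt25r hchk63) hchk64
theorem Hh_c3i : CH.Mem RH (CH.gen RH 75553252039895896031232) 73012213043742405296128 := Hh_c2m.sub hchk66
theorem Hh_c3m : CH.Mem RH (CH.gen RH 73012213043742405296128) 73012213043742405296128 := Hh_c3i.gen
theorem hfx68 : CH.gen RH 73012213043742405296128 ≤ stabilizer _ hpt26 := Act.fix_sound Hh_c3i.top hpt26r hchk67
theorem hcov75 : Cov (CH.gen RH 75553252039895896031232) (CH.wds RH [0]) hpt26 8 := Act.cov_of_seen (Act.pieces_sound Hh_c2m Hh_c2m.top hpt26r hchk73) hchk74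
theorem Hh_c4i : CH.Mem RH (CH.gen RH 73012213043742405296128) 68252953072725340979200 := Hh_c3m.sub hchk76
theorem Hh_c4m : CH.Mem RH (CH.gen RH 68252953072725340979200) 68252953072725340979200 := Hh_c4i.gen
theorem hfx78 : CH.gen RH 68252953072725340979200 ≤ stabilizer _ hpt27 := Act.fix_sound Hh_c4i.top hpt27r hchk77
theorem hcov85 : Cov (CH.gen RH 73012213043742405296128) (CH.wds RH [0]) hpt27 7 := Act.cov_of_seen (Act.pieces_sound Hh_c3m Hh_c3m.top hpt27r hchk83) hchk84
theorem Hh_c5i : CH.Mem RH (CH.gen RH 68252953072725340979200) 67884018191251149946880 := Hh_c4m.sub hchk86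
theorem Hh_c5m : CH.Mem RH (CH.gen RH 67884018191251149946880) 67884018191251149946880 := Hh_c5i.gen
theorem hfx88 : CH.gen RH 67884018191251149946880 ≤ stabilizer _ hpt28 := Act.fix_sound Hh_c5i.top hpt28r hchk87
theorem hcov95 : Cov (CH.gen RH 68252953072725340979200) (CH.wds RH [0]) hpt28 6 := Act.cov_of_seen (Act.pieces_sound Hh_c4m Hh_c4m.top hpt28r hchk93) hchk94
theorem Hh_c6i : CH.Mem RH (CH.gen RH 67884018191251149946880) 67293722380892444295168 := Hh_c5m.sub hchk96
theorem Hh_c6m : CH.Mem RH (CH.gen RH 67293722380892444295168) 67293722380892444295168 := Hh_c6i.gen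
theorem hfx98 : CH.gen RH 67293722380892444295168 ≤ stabilizer _ hpt29 := Act.fix_sound Hh_c6i.top hpt29r hchk97
theorem hcov105 : Cov (CH.gen RH 67884018191251149946880) (CH.wds RH [0]) hpt29 5 := Act.cov_of_seen (Act.pieces_sound Hh_c5m Hh_c5m.top hpt29r hchk103) hchk104
theorem Hh_c7i : CH.Mem RH (CH.gen RH 67293722380892444295168) 56668397794435742564352 := Hh_c6m.sub hchk106
theorem Hh_c7m : CH.Mem RH (CH.gen RH 56668397794435742564352) 56668397794435742564352 := Hh_c7i.gen
theorem hfx108 : CH.gen RH 56668397794435742564352 ≤ stabilizer _ hpt30 := Act.fix_sound Hh_c7i.top hpt30r hchk107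
theorem hcov115 : Cov (CH.gen RH 67293722380892444295168) (CH.wds RH [0]) hpt30 4 := Act.cov_of_seen (Act.pieces_sound Hh_c6m Hh_c6m.top hpt30r hchk113) hchk114
theorem Hh_c8i : CH.Mem RH (CH.gen RH 56668397794435742564352) 37778931862957161709568 := Hh_c7m.sub hchk116
theorem Hh_c8m : CH.Mem RH (CH.gen RH 37778931862957161709568) 37778931862957161709568 := Hh_c8i.gen
theorem hfx118 : CH.gen RH 37778931862957161709568 ≤ stabilizer _ hpt31 := Act.fix_sound Hh_c8i.top hpt31r hchk117
theorem hcov125 : Cov (CH.gen RH 56668397794435742564352) (CH.wds RH [0]) hpt31 3 := Act.cov_of_seen (Act.pieces_sound Hh_c7m Hh_c7m.top hpt31r hchk123) hchk124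
theorem Hh_c9i : CH.Mem RH (CH.gen RH 37778931862957161709568) 0 := Hh_c8m.sub hchk126
theorem Hh_c9m : CH.Mem RH (CH.gen RH 0) 0 := Hh_c9i.gen
theorem hfx128 : CH.gen RH 0 ≤ stabilizer _ hpt32 := Act.fix_sound Hh_c9i.top hpt32r hchk127
theorem hcov135 : Cov (CH.gen RH 37778931862957161709568) (CH.wds RH [0]) hpt32 2 := Act.cov_of_seen (Act.pieces_sound Hh_c8m Hh_c8m.top hpt32r hchk133) hchk134
theorem Hh_lb10 : 1 ≤ Nat.card (CH.gen RH 0) := Nat.card_pos
theorem Hh_lo9 : 2 * Nat.card (CH.gen RH 0) ≤ Nat.card (CH.gen RH 37778931862957161709568) := hcov135.low le_rfl (GC.wds_zero _) Hh_c9i.gen_le hfx128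
theorem Hh_lb9 : 2 ≤ Nat.card (CH.gen RH 37778931862957161709568) := low_step Hh_lo9 Hh_lb10 (by decide +kernel)
theorem Hh_lo8 : 3 * Nat.card (CH.gen RH 37778931862957161709568) ≤ Nat.card (CH.gen RH 56668397794435742564352) := hcov125.low le_rfl (GC.wds_zero _) Hh_c8i.gen_le hfx118
theorem Hh_lb8 : 6 ≤ Nat.card (CH.gen RH 56668397794435742564352) := low_step Hh_lo8 Hh_lb9 (by decide +kernel)
theorem Hh_lo7 : 4 * Nat.card (CH.gen RH 56668397794435742564352) ≤ Nat.card (CH.gen RH 67293722380892444295168) := hcov115.low le_rfl (GC.wds_zero _) Hh_c7i.gen_le hfx108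
theorem Hh_lb7 : 24 ≤ Nat.card (CH.gen RH 67293722380892444295168) := low_step Hh_lo7 Hh_lb8 (by decide +kernel)
theorem Hh_lo6 : 5 * Nat.card (CH.gen RH 67293722380892444295168) ≤ Nat.card (CH.gen RH 67884018191251149946880) := hcov105.low le_rfl (GC.wds_zero _) Hh_c6i.gen_le hfx98
theorem Hh_lb6 : 120 ≤ Nat.card (CH.gen RH 67884018191251149946880) := low_step Hh_lo6 Hh_lb7 (by decide +kernel)
theorem Hh_lo5 : 6 * Nat.card (CH.gen RH 67884018191251149946880) ≤ Nat.card (CH.gen RH 68252953072725340979200) := hcov95.low le_rfl (GC.wds_zero _) Hh_c5i.gen_le hfx88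
theorem Hh_lb5 : 720 ≤ Nat.card (CH.gen RH 68252953072725340979200) := low_step Hh_lo5 Hh_lb6 (by decide +kernel)
theorem Hh_lo4 : 7 * Nat.card (CH.gen RH 68252953072725340979200) ≤ Nat.card (CH.gen RH 73012213043742405296128) := hcov85.low le_rfl (GC.wds_zero _) Hh_c4i.gen_le hfx78
theorem Hh_lb4 : 5040 ≤ Nat.card (CH.gen RH 73012213043742405296128) := low_step Hh_lo4 Hh_lb5 (by decide +kernel)
theorem Hh_lo3 : 8 * Nat.card (CH.gen RH 73012213043742405296128) ≤ Nat.card (CH.gen RH 75553252039895896031232) := hcov75.low le_rfl (GC.wds_zero _) Hh_c3i.gen_le hfx68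
theorem Hh_lb3 : 40320 ≤ Nat.card (CH.gen RH 75553252039895896031232) := low_step Hh_lo3 Hh_lb4 (by decide +kernel)
theorem Hh_lo2 : 9 * Nat.card (CH.gen RH 75553252039895896031232) ≤ Nat.card (CH.gen RH 75555557882905109725184) := hcov65.low le_rfl (GC.wds_zero _) Hh_c2i.gen_le hfx58
theorem Hh_lb2 : 362880 ≤ Nat.card (CH.gen RH 75555557882905109725184) := low_step Hh_lo2 Hh_lb3 (by decide +kernel)
theorem Hh_lo1 : 10 * Nat.card (CH.gen RH 75555557882905109725184) ≤ Nat.card (CH.gen RH 75556132091857599463424) := hcov55.low le_rfl (GC.wds_zero _) Hh_c1i.gen_le hfx48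
theorem Hh_lb1 : 3628800 ≤ Nat.card (CH.gen RH 75556132091857599463424) := low_step Hh_lo1 Hh_lb2 (by decide +kernel)
theorem Hh_lo0 : 11 * Nat.card (CH.gen RH 75556132091857599463424) ≤ Nat.card (CH.gen RH 1150669704793161728) := hcov45.low le_rfl (GC.wds_zero _) Hh_c0i.gen_le hfx38
theorem Hh_lb0 : 39916800 ≤ Nat.card (CH.gen RH 1150669704793161728) := low_step Hh_lo0 Hh_lb1 (by decide +kernel)
theorem mH8 : CH.Mem RH ⊤ 75557861474114509734398 := hHh_s0_35.top
theorem slpH0 : slpL OH RH LC0 254 = true := hchk136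
theorem slpH1 : slpL OH RH LC1 (Nat.lor 256 (insP LC0 254)) = true := hchk137
/-- all registers `1..60` are valid -/
theorem memH : CH.Mem RH ⊤ 2305843009213693950 := by
  have h0 := (slpL_sound (mH8.sub (M' := 254) (by decide +kernel)) slpH0).1
  have h1 := (slpL_sound ((mH8.sub (M' := 256) (by decide +kernel)).lor h0) slpH1).1
  exact h1.lor' mH8 (by decide +kernel)
abbrev MH : ℕ := 2305843009213693950
theorem hEq {l l' : List ℕ} (h : eqL OH RH MH l l' = true) : hw l = hw l' := eqL_sound memH h
theorem hNe {l l' : List ℕ} (h : neL OH RH MH l l' = true) : hw l ≠ hw l' := neL_sound memH h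
theorem hw_cons (r : ℕ) (l : List ℕ) : hw (r :: l) = hh r * hw l := wl_cons r l
theorem hw_nil : hw [] = 1 := rfl
theorem H6_lb : 39916800 ≤ Nat.card H6 := by have := Hh_lb0; rwa [topH, card_top] at this
theorem carH3 : ∀ i, i < 9 → hh (51 + i) ^ 3 = 1 := fun i hi => by
  have h : allL (List.range 9) (fun i => eqL OH RH MH [51 + i, 51 + i, 51 + i] []) = true := by decide +kernel
  have := hEq ((allL_iff _ _).1 h i (List.mem_range.2 hi))
  simpa [hw_cons, hw_nil, pow_succ, mul_assoc] using this
theorem carH2 : ∀ i j, i < j → j < 9 → (hh (51 + i) * hh (51 + j)) ^ 2 = hh 9 := fun i j hij hj => by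
  have h : allL (List.range 9) (fun j => allL (List.range j) fun i => eqL OH RH MH [51 + i, 51 + j, 51 + i, 51 + j] [9]) = true := by decide +kernel
  have := hEq ((allL_iff _ _).1 ((allL_iff _ _).1 h j (List.mem_range.2 hj)) i (List.mem_range.2 hij))
  simpa [hw_cons, hw_nil, pow_succ, mul_assoc] using this
theorem carHc : ∀ i, i < 9 → Commute (hh 9) (hh (51 + i)) := fun i hi => by
  have h : allL (List.range 9) (fun i => eqL OH RH MH [9, 51 + i] [51 + i, 9]) = true := by decide +kernel
  have := hEq ((allL_iff _ _).1 h i (List.mem_range.2 hi))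
  simpa [hw_cons, hw_nil, Commute, SemiconjBy] using this
theorem t_sq : hh 9 * hh 9 = 1 := by simpa [hw_cons, hw_nil] using hEq (l := [9, 9]) (l' := []) (by decide +kernel)
theorem t_ne : hh 9 ≠ 1 := by simpa [hw_cons, hw_nil] using hNe (l := [9]) (l' := []) (by decide +kernel)
theorem closH : closure ((fun i => hh (51 + i)) '' Set.Iio 9) = ⊤ := by
  rw [eq_top_iff, ← topH, GC.gen, closure_le]
  rintro _ ⟨i, hi, rfl⟩
  have h : ∀ i, i < 60 → Nat.testBit 1150669704793161728 i = true → 51 ≤ i := by decide +kernel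
  have h2 : i < 60 := by
    by_contra hn
    rw [Nat.testBit_lt_two_pow (lt_of_lt_of_le (by norm_num) (Nat.pow_le_pow_right (by norm_num) (not_lt.1 hn)))] at hi
    exact absurd hi (by simp)
  exact subset_closure ⟨i - 51, by have := h i h2 hi; show i - 51 < 9; omega, by have := h i h2 hi; show hh _ = hh i; congr 1; omega⟩
theorem H6_ub : Nat.card H6 ≤ 39916800 := by
  have := carmB (fun i => hh (51 + i)) (hh 9) 9 t_sq carHc carH3 carH2
  rwa [eq_top_iff.2 (closH.ge.trans (closure_mono (Set.subset_insert _ _))), card_top] at this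
theorem Hh_ub : Nat.card (CH.gen RH 1150669704793161728) ≤ 39916800 := by rw [topH, card_top]; exact H6_ub
theorem Hh_st0 : (CH.gen RH 1150669704793161728) ⊓ stabilizer _ hpt23 = (CH.gen RH 75556132091857599463424) ∧ (orbit (CH.gen RH 1150669704793161728) hpt23).ncard = 11 := hcov45.stab le_rfl (GC.wds_zero _) Hh_c0i.gen_le hfx38 (up_low Hh_ub Hh_lb1 (by decide +kernel))
theorem Hh_ub1 : Nat.card (CH.gen RH 75556132091857599463424) ≤ 3628800 := up_step Hh_lo0 Hh_ub (by decide +kernel)
theorem Hh_st1 : (CH.gen RH 75556132091857599463424) ⊓ stabilizer _ hpt24 = (CH.gen RH 75555557882905109725184) ∧ (orbit (CH.gen RH 75556132091857599463424) hpt24).ncard = 10 := hcov55.stab le_rfl (GC.wds_zero _) Hh_c1i.gen_le hfx48 (up_low Hh_ub1 Hh_lb2 (by decide +kernel))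
theorem Hh_ub2 : Nat.card (CH.gen RH 75555557882905109725184) ≤ 362880 := up_step Hh_lo1 Hh_ub1 (by decide +kernel)
theorem Hh_st2 : (CH.gen RH 75555557882905109725184) ⊓ stabilizer _ hpt25 = (CH.gen RH 75553252039895896031232) ∧ (orbit (CH.gen RH 75555557882905109725184) hpt25).ncard = 9 := hcov65.stab le_rfl (GC.wds_zero _) Hh_c2i.gen_le hfx58 (up_low Hh_ub2 Hh_lb3 (by decide +kernel))
theorem Hh_ub3 : Nat.card (CH.gen RH 75553252039895896031232) ≤ 40320 := up_step Hh_lo2 Hh_ub2 (by decide +kernel)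
theorem Hh_st3 : (CH.gen RH 75553252039895896031232) ⊓ stabilizer _ hpt26 = (CH.gen RH 73012213043742405296128) ∧ (orbit (CH.gen RH 75553252039895896031232) hpt26).ncard = 8 := hcov75.stab le_rfl (GC.wds_zero _) Hh_c3i.gen_le hfx68 (up_low Hh_ub3 Hh_lb4 (by decide +kernel))
theorem Hh_ub4 : Nat.card (CH.gen RH 73012213043742405296128) ≤ 5040 := up_step Hh_lo3 Hh_ub3 (by decide +kernel)
theorem Hh_st4 : (CH.gen RH 73012213043742405296128) ⊓ stabilizer _ hpt27 = (CH.gen RH 68252953072725340979200) ∧ (orbit (CH.gen RH 73012213043742405296128) hpt27).ncard = 7 := hcov85.stab le_rfl (GC.wds_zero _) Hh_c4i.gen_le hfx78 (up_low Hh_ub4 Hh_lb5 (by decide +kernel))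
theorem Hh_ub5 : Nat.card (CH.gen RH 68252953072725340979200) ≤ 720 := up_step Hh_lo4 Hh_ub4 (by decide +kernel)
theorem Hh_st5 : (CH.gen RH 68252953072725340979200) ⊓ stabilizer _ hpt28 = (CH.gen RH 67884018191251149946880) ∧ (orbit (CH.gen RH 68252953072725340979200) hpt28).ncard = 6 := hcov95.stab le_rfl (GC.wds_zero _) Hh_c5i.gen_le hfx88 (up_low Hh_ub5 Hh_lb6 (by decide +kernel))
theorem Hh_ub6 : Nat.card (CH.gen RH 67884018191251149946880) ≤ 120 := up_step Hh_lo5 Hh_ub5 (by decide +kernel)
theorem Hh_st6 : (CH.gen RH 67884018191251149946880) ⊓ stabilizer _ hpt29 = (CH.gen RH 67293722380892444295168) ∧ (orbit (CH.gen RH 67884018191251149946880) hpt29).ncard = 5 := hcov105.stab le_rfl (GC.wds_zero _) Hh_c6i.gen_le hfx98 (up_low Hh_ub6 Hh_lb7 (by decide +kernel))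
theorem Hh_ub7 : Nat.card (CH.gen RH 67293722380892444295168) ≤ 24 := up_step Hh_lo6 Hh_ub6 (by decide +kernel)
theorem Hh_st7 : (CH.gen RH 67293722380892444295168) ⊓ stabilizer _ hpt30 = (CH.gen RH 56668397794435742564352) ∧ (orbit (CH.gen RH 67293722380892444295168) hpt30).ncard = 4 := hcov115.stab le_rfl (GC.wds_zero _) Hh_c7i.gen_le hfx108 (up_low Hh_ub7 Hh_lb8 (by decide +kernel))
theorem Hh_ub8 : Nat.card (CH.gen RH 56668397794435742564352) ≤ 6 := up_step Hh_lo7 Hh_ub7 (by decide +kernel)
theorem Hh_st8 : (CH.gen RH 56668397794435742564352) ⊓ stabilizer _ hpt31 = (CH.gen RH 37778931862957161709568) ∧ (orbit (CH.gen RH 56668397794435742564352) hpt31).ncard = 3 := hcov125.stab le_rfl (GC.wds_zero _) Hh_c8i.gen_le hfx118 (up_low Hh_ub8 Hh_lb9 (by decide +kernel))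
theorem Hh_ub9 : Nat.card (CH.gen RH 37778931862957161709568) ≤ 2 := up_step Hh_lo8 Hh_ub8 (by decide +kernel)
theorem Hh_st9 : (CH.gen RH 37778931862957161709568) ⊓ stabilizer _ hpt32 = (CH.gen RH 0) ∧ (orbit (CH.gen RH 37778931862957161709568) hpt32).ncard = 2 := hcov135.stab le_rfl (GC.wds_zero _) Hh_c9i.gen_le hfx128 (up_low Hh_ub9 Hh_lb10 (by decide +kernel))
theorem Hh_ub10 : Nat.card (CH.gen RH 0) ≤ 1 := up_step Hh_lo9 Hh_ub9 (by decide +kernel)
theorem A8_m0 : CH.Mem RH (CH.gen RH 126) 126 := GC.Mem.gen (memH.sub (by decide +kernel))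
theorem hpt138e : ∃ x, HP.Rep hpt138c x := via_rep _ _ (via_rep _ _ (act2_rep (n := 11) (d := 4) (by decide) (by decide) (c := 0x1) (by decide +kernel)))
noncomputable def hpt138 := Classical.choose hpt138e
theorem hpt138r : HP.Rep hpt138c hpt138 := Classical.choose_spec hpt138e
theorem hpt139e : ∃ x, HP.Rep hpt139c x := via_rep _ _ (via_rep _ _ (act2_rep (n := 11) (d := 4) (by decide) (by decide) (c := 0x10) (by decide +kernel)))
noncomputable def hpt139 := Classical.choose hpt139e
theorem hpt139r : HP.Rep hpt139c hpt139 := Classical.choose_spec hpt139e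
theorem hpt140e : ∃ x, HP.Rep hpt140c x := via_rep _ _ (via_rep _ _ (act2_rep (n := 11) (d := 4) (by decide) (by decide) (c := 0x8) (by decide +kernel)))
noncomputable def hpt140 := Classical.choose hpt140e
theorem hpt140r : HP.Rep hpt140c hpt140 := Classical.choose_spec hpt140e
theorem hpt141e : ∃ x, HP.Rep hpt141c x := via_rep _ _ (via_rep _ _ (act2_rep (n := 11) (d := 4) (by decide) (by decide) (c := 0x2) (by decide +kernel)))
noncomputable def hpt141 := Classical.choose hpt141e
theorem hpt141r : HP.Rep hpt141c hpt141 := Classical.choose_spec hpt141e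
theorem hpt142e : ∃ x, HP.Rep hpt142c x := via_rep _ _ (via_rep _ _ (act2_rep (n := 11) (d := 4) (by decide) (by decide) (c := 0x20) (by decide +kernel)))
noncomputable def hpt142 := Classical.choose hpt142e
theorem hpt142r : HP.Rep hpt142c hpt142 := Classical.choose_spec hpt142e
theorem hpt143e : ∃ x, HP.Rep hpt143c x := via_rep _ _ (via_rep _ _ (act2_rep (n := 11) (d := 4) (by decide) (by decide) (c := 0x4) (by decide +kernel)))
noncomputable def hpt143 := Classical.choose hpt143e
theorem hpt143r : HP.Rep hpt143c hpt143 := Classical.choose_spec hpt143e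
theorem hpt144e : ∃ x, HV.Rep hpt144c x := via_rep _ _ (PP.exists_vec P16_ok (c := 0x4000300030000000300000001000300030003000300000002000000040001) (by decide +kernel))
noncomputable def hpt144 := Classical.choose hpt144e
theorem hpt144r : HV.Rep hpt144c hpt144 := Classical.choose_spec hpt144e
theorem hA8_s0_147 : CH.Mem RH (CH.gen RH 126) 38610068363942219267178622 := A8_m0.slp' hchk146
theorem A8_c0i : CH.Mem RH (CH.gen RH 126) 38610068363942219267178496 := hA8_s0_147.sub hchk148
theorem A8_c0m : CH.Mem RH (CH.gen RH 38610068363942219267178496) 38610068363942219267178496 := A8_c0i.gen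
theorem hfx150 : CH.gen RH 38610068363942219267178496 ≤ stabilizer _ hpt138 := Act.fix_sound A8_c0i.top hpt138r hchk149
theorem hcov157 : Cov (CH.gen RH 126) (CH.wds RH [0]) hpt138 8 := Act.cov_of_seen (Act.pieces_sound hA8_s0_147 hA8_s0_147.top hpt138r hchk155) hchk156
theorem A8_c1i : CH.Mem RH (CH.gen RH 38610068363942219267178496) 38534510500216304943759360 := A8_c0m.sub hchk158
theorem A8_c1m : CH.Mem RH (CH.gen RH 38534510500216304943759360) 38534510500216304943759360 := A8_c1i.gen
theorem hfx160 : CH.gen RH 38534510500216304943759360 ≤ stabilizer _ hpt139 := Act.fix_sound A8_c1i.top hpt139r hchk159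
theorem hcov167 : Cov (CH.gen RH 38610068363942219267178496) (CH.wds RH [0]) hpt139 7 := Act.cov_of_seen (Act.pieces_sound A8_c0m A8_c0m.top hpt139r hchk165) hchk166
theorem A8_c2i : CH.Mem RH (CH.gen RH 38534510500216304943759360) 35663311678631560653832192 := A8_c1m.sub hchk168
theorem A8_c2m : CH.Mem RH (CH.gen RH 35663311678631560653832192) 35663311678631560653832192 := A8_c2i.gen
theorem hfx170 : CH.gen RH 35663311678631560653832192 ≤ stabilizer _ hpt140 := Act.fix_sound A8_c2i.top hpt140r hchk169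
theorem hcov177 : Cov (CH.gen RH 38534510500216304943759360) (CH.wds RH [0]) hpt140 6 := Act.cov_of_seen (Act.pieces_sound A8_c1m A8_c1m.top hpt140r hchk175) hchk176
theorem A8_c3i : CH.Mem RH (CH.gen RH 35663311678631560653832192) 30223145490365729367654400 := A8_c2m.sub hchk178
theorem A8_c3m : CH.Mem RH (CH.gen RH 30223145490365729367654400) 30223145490365729367654400 := A8_c3i.gen
theorem hfx180 : CH.gen RH 30223145490365729367654400 ≤ stabilizer _ hpt141 := Act.fix_sound A8_c3i.top hpt141r hchk179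
theorem hcov187 : Cov (CH.gen RH 35663311678631560653832192) (CH.wds RH [0]) hpt141 5 := Act.cov_of_seen (Act.pieces_sound A8_c2m A8_c2m.top hpt141r hchk185) hchk186
theorem A8_c4i : CH.Mem RH (CH.gen RH 30223145490365729367654400) 29014219670751100192948224 := A8_c3m.sub hchk188
theorem A8_c4m : CH.Mem RH (CH.gen RH 29014219670751100192948224) 29014219670751100192948224 := A8_c4i.gen
theorem hfx190 : CH.gen RH 29014219670751100192948224 ≤ stabilizer _ hpt142 := Act.fix_sound A8_c4i.top hpt142r hchk189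
theorem hcov197 : Cov (CH.gen RH 30223145490365729367654400) (CH.wds RH [0]) hpt142 4 := Act.cov_of_seen (Act.pieces_sound A8_c3m A8_c3m.top hpt142r hchk195) hchk196
theorem A8_c5i : CH.Mem RH (CH.gen RH 29014219670751100192948224) 19342813113834066795298816 := A8_c4m.sub hchk198
theorem A8_c5m : CH.Mem RH (CH.gen RH 19342813113834066795298816) 19342813113834066795298816 := A8_c5i.gen
theorem hfx200 : CH.gen RH 19342813113834066795298816 ≤ stabilizer _ hpt143 := Act.fix_sound A8_c5i.top hpt143r hchk199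
theorem hcov207 : Cov (CH.gen RH 29014219670751100192948224) (CH.wds RH [0]) hpt143 3 := Act.cov_of_seen (Act.pieces_sound A8_c4m A8_c4m.top hpt143r hchk205) hchk206
theorem A8_c6i : CH.Mem RH (CH.gen RH 19342813113834066795298816) 0 := A8_c5m.sub hchk208
theorem A8_c6m : CH.Mem RH (CH.gen RH 0) 0 := A8_c6i.gen
theorem hfx210 : CH.gen RH 0 ≤ stabilizer _ hpt144 := Act.fix_sound A8_c6i.top hpt144r hchk209
theorem hcov217 : Cov (CH.gen RH 19342813113834066795298816) (CH.wds RH [0]) hpt144 2 := Act.cov_of_seen (Act.pieces_sound A8_c5m A8_c5m.top hpt144r hchk215) hchk216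
theorem A8_lb7 : 1 ≤ Nat.card (CH.gen RH 0) := Nat.card_pos
theorem A8_lo6 : 2 * Nat.card (CH.gen RH 0) ≤ Nat.card (CH.gen RH 19342813113834066795298816) := hcov217.low le_rfl (GC.wds_zero _) A8_c6i.gen_le hfx210
theorem A8_lb6 : 2 ≤ Nat.card (CH.gen RH 19342813113834066795298816) := low_step A8_lo6 A8_lb7 (by decide +kernel)
theorem A8_lo5 : 3 * Nat.card (CH.gen RH 19342813113834066795298816) ≤ Nat.card (CH.gen RH 29014219670751100192948224) := hcov207.low le_rfl (GC.wds_zero _) A8_c5i.gen_le hfx200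
theorem A8_lb5 : 6 ≤ Nat.card (CH.gen RH 29014219670751100192948224) := low_step A8_lo5 A8_lb6 (by decide +kernel)
theorem A8_lo4 : 4 * Nat.card (CH.gen RH 29014219670751100192948224) ≤ Nat.card (CH.gen RH 30223145490365729367654400) := hcov197.low le_rfl (GC.wds_zero _) A8_c4i.gen_le hfx190
theorem A8_lb4 : 24 ≤ Nat.card (CH.gen RH 30223145490365729367654400) := low_step A8_lo4 A8_lb5 (by decide +kernel)
theorem A8_lo3 : 5 * Nat.card (CH.gen RH 30223145490365729367654400) ≤ Nat.card (CH.gen RH 35663311678631560653832192) := hcov187.low le_rfl (GC.wds_zero _) A8_c3i.gen_le hfx180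
theorem A8_lb3 : 120 ≤ Nat.card (CH.gen RH 35663311678631560653832192) := low_step A8_lo3 A8_lb4 (by decide +kernel)
theorem A8_lo2 : 6 * Nat.card (CH.gen RH 35663311678631560653832192) ≤ Nat.card (CH.gen RH 38534510500216304943759360) := hcov177.low le_rfl (GC.wds_zero _) A8_c2i.gen_le hfx170
theorem A8_lb2 : 720 ≤ Nat.card (CH.gen RH 38534510500216304943759360) := low_step A8_lo2 A8_lb3 (by decide +kernel)
theorem A8_lo1 : 7 * Nat.card (CH.gen RH 38534510500216304943759360) ≤ Nat.card (CH.gen RH 38610068363942219267178496) := hcov167.low le_rfl (GC.wds_zero _) A8_c1i.gen_le hfx160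
theorem A8_lb1 : 5040 ≤ Nat.card (CH.gen RH 38610068363942219267178496) := low_step A8_lo1 A8_lb2 (by decide +kernel)
theorem A8_lo0 : 8 * Nat.card (CH.gen RH 38610068363942219267178496) ≤ Nat.card (CH.gen RH 126) := hcov157.low le_rfl (GC.wds_zero _) A8_c0i.gen_le hfx150
theorem A8_lb0 : 40320 ≤ Nat.card (CH.gen RH 126) := low_step A8_lo0 A8_lb1 (by decide +kernel)
theorem hA8in220 : CH.Mem RH (CH.gen RH 126) 75553252039895896031232 := hA8_s0_147.slp' hchk219
/-- the subgroup generated by the registers `1..6` -/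
abbrev A8 : Subgroup H6 := (CH.gen RH 126)
theorem A8_lb : 40320 ≤ Nat.card A8 := A8_lb0
theorem hp_fix (i : Fin 11) (c : ℕ) (hc : c = 2 ^ i.1) (x) (hx : HP.Rep c x) (g : H6) (hg : rho g i = i) : g • x = x := by
  have e0 : ∀ i : Fin 11, vcode 1 (Pi.single i 1 : Fin 11 → ZMod 2) = 2 ^ i.1 := by
    decide +kernel
  have e := e0 i
  have e2 : (x : Fin 11 → ZMod 2) = Pi.single i 1 := vcode_inj (p := 2) (by norm_num) ((hc.symm.trans hx).symm.trans e.symm)
  show (permHom 11 (rho g) : Matrix _ _ _).mulVec (x : Fin 11 → ZMod 2) = x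
  rw [e2]
  show ((rho g)⁻¹.permMatrix (ZMod 2)).mulVec _ = _
  rw [Matrix.permMatrix_mulVec]
  ext j
  simp only [Function.comp, Pi.single_apply, Equiv.Perm.inv_eq_iff_eq, hg]
theorem mem_A8 (g : H6) (h8 : rho g 8 = 8) (h9 : rho g 9 = 9) (h10 : rho g 10 = 10) : g ∈ A8 := by
  have a : g ∈ (CH.gen RH 75556132091857599463424) := Hh_st0.1 ▸ ⟨topH ▸ mem_top g, hp_fix 8 _ (by decide +kernel) _ hpt23r g h8⟩
  have b : g ∈ (CH.gen RH 75555557882905109725184) := Hh_st1.1 ▸ ⟨a, hp_fix 9 _ (by decide +kernel) _ hpt24r g h9⟩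
  have c : g ∈ (CH.gen RH 75553252039895896031232) := Hh_st2.1 ▸ ⟨b, hp_fix 10 _ (by decide +kernel) _ hpt25r g h10⟩
  exact hA8in220.gen_le c
theorem Hs_m0 : CH.Mem RH (CH.gen RH 1152921504606847486) 1152921504606847486 := GC.Mem.gen (memH.sub (by decide +kernel))
theorem hHs_s0_223 : CH.Mem RH (CH.gen RH 1152921504606847486) 316873964431982603745192051198 := Hs_m0.slp' hchk222
theorem hHsin226 : CH.Mem RH (CH.gen RH 1152921504606847486) 1150669704793161728 := hHs_s0_223.slp' hchk225
/-- `H6` is generated by the registers `1..8` and `60` -/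
theorem Hs_top : (CH.gen RH 1152921504606847486) = ⊤ := eq_top_iff.2 (topH ▸ hHsin226.gen_le)
theorem rho1 : rho (hh 1) = pm1 := CP.inj ((hH2 _).trans (by rw [(memH.get (i := 1) (by decide +kernel)).code_el]; exact ((beq_true_iff _ _).1 hchk227).symm))
theorem rho2 : rho (hh 2) = pm2 := CP.inj ((hH2 _).trans (by rw [(memH.get (i := 2) (by decide +kernel)).code_el]; exact ((beq_true_iff _ _).1 hchk228).symm))
theorem rho3 : rho (hh 3) = pm3 := CP.inj ((hH2 _).trans (by rw [(memH.get (i := 3) (by decide +kernel)).code_el]; exact ((beq_true_iff _ _).1 hchk229).symm))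
theorem rho4 : rho (hh 4) = pm4 := CP.inj ((hH2 _).trans (by rw [(memH.get (i := 4) (by decide +kernel)).code_el]; exact ((beq_true_iff _ _).1 hchk230).symm))
theorem rho5 : rho (hh 5) = pm5 := CP.inj ((hH2 _).trans (by rw [(memH.get (i := 5) (by decide +kernel)).code_el]; exact ((beq_true_iff _ _).1 hchk231).symm))
theorem rho6 : rho (hh 6) = pm6 := CP.inj ((hH2 _).trans (by rw [(memH.get (i := 6) (by decide +kernel)).code_el]; exact ((beq_true_iff _ _).1 hchk232).symm))
theorem rho7 : rho (hh 7) = pm7 := CP.inj ((hH2 _).trans (by rw [(memH.get (i := 7) (by decide +kernel)).code_el]; exact ((beq_true_iff _ _).1 hchk233).symm))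
theorem rho8 : rho (hh 8) = pm8 := CP.inj ((hH2 _).trans (by rw [(memH.get (i := 8) (by decide +kernel)).code_el]; exact ((beq_true_iff _ _).1 hchk234).symm))
theorem rho9 : rho (hh 9) = pm9 := CP.inj ((hH2 _).trans (by rw [(memH.get (i := 9) (by decide +kernel)).code_el]; exact ((beq_true_iff _ _).1 hchk235).symm))
theorem rho10 : rho (hh 10) = pm10 := CP.inj ((hH2 _).trans (by rw [(memH.get (i := 10) (by decide +kernel)).code_el]; exact ((beq_true_iff _ _).1 hchk236).symm))
theorem rho11 : rho (hh 11) = pm11 := CP.inj ((hH2 _).trans (by rw [(memH.get (i := 11) (by decide +kernel)).code_el]; exact ((beq_true_iff _ _).1 hchk237).symm))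
theorem rho12 : rho (hh 12) = pm12 := CP.inj ((hH2 _).trans (by rw [(memH.get (i := 12) (by decide +kernel)).code_el]; exact ((beq_true_iff _ _).1 hchk238).symm))
theorem rho13 : rho (hh 13) = pm13 := CP.inj ((hH2 _).trans (by rw [(memH.get (i := 13) (by decide +kernel)).code_el]; exact ((beq_true_iff _ _).1 hchk239).symm))
theorem rho14 : rho (hh 14) = pm14 := CP.inj ((hH2 _).trans (by rw [(memH.get (i := 14) (by decide +kernel)).code_el]; exact ((beq_true_iff _ _).1 hchk240).symm))
theorem rho15 : rho (hh 15) = pm15 := CP.inj ((hH2 _).trans (by rw [(memH.get (i := 15) (by decide +kernel)).code_el]; exact ((beq_true_iff _ _).1 hchk241).symm))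
theorem rho16 : rho (hh 16) = pm16 := CP.inj ((hH2 _).trans (by rw [(memH.get (i := 16) (by decide +kernel)).code_el]; exact ((beq_true_iff _ _).1 hchk242).symm))
theorem rho17 : rho (hh 17) = pm17 := CP.inj ((hH2 _).trans (by rw [(memH.get (i := 17) (by decide +kernel)).code_el]; exact ((beq_true_iff _ _).1 hchk243).symm))
theorem rho18 : rho (hh 18) = pm18 := CP.inj ((hH2 _).trans (by rw [(memH.get (i := 18) (by decide +kernel)).code_el]; exact ((beq_true_iff _ _).1 hchk244).symm))
theorem rho19 : rho (hh 19) = pm19 := CP.inj ((hH2 _).trans (by rw [(memH.get (i := 19) (by decide +kernel)).code_el]; exact ((beq_true_iff _ _).1 hchk245).symm))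
theorem rho20 : rho (hh 20) = pm20 := CP.inj ((hH2 _).trans (by rw [(memH.get (i := 20) (by decide +kernel)).code_el]; exact ((beq_true_iff _ _).1 hchk246).symm))
theorem rho21 : rho (hh 21) = pm21 := CP.inj ((hH2 _).trans (by rw [(memH.get (i := 21) (by decide +kernel)).code_el]; exact ((beq_true_iff _ _).1 hchk247).symm))
theorem rho22 : rho (hh 22) = pm22 := CP.inj ((hH2 _).trans (by rw [(memH.get (i := 22) (by decide +kernel)).code_el]; exact ((beq_true_iff _ _).1 hchk248).symm))
theorem rho23 : rho (hh 23) = pm23 := CP.inj ((hH2 _).trans (by rw [(memH.get (i := 23) (by decide +kernel)).code_el]; exact ((beq_true_iff _ _).1 hchk249).symm))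
theorem rho24 : rho (hh 24) = pm24 := CP.inj ((hH2 _).trans (by rw [(memH.get (i := 24) (by decide +kernel)).code_el]; exact ((beq_true_iff _ _).1 hchk250).symm))
theorem rho25 : rho (hh 25) = pm25 := CP.inj ((hH2 _).trans (by rw [(memH.get (i := 25) (by decide +kernel)).code_el]; exact ((beq_true_iff _ _).1 hchk251).symm))
theorem rho26 : rho (hh 26) = pm26 := CP.inj ((hH2 _).trans (by rw [(memH.get (i := 26) (by decide +kernel)).code_el]; exact ((beq_true_iff _ _).1 hchk252).symm))
theorem rho27 : rho (hh 27) = pm27 := CP.inj ((hH2 _).trans (by rw [(memH.get (i := 27) (by decide +kernel)).code_el]; exact ((beq_true_iff _ _).1 hchk253).symm))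
theorem rho28 : rho (hh 28) = pm28 := CP.inj ((hH2 _).trans (by rw [(memH.get (i := 28) (by decide +kernel)).code_el]; exact ((beq_true_iff _ _).1 hchk254).symm))
theorem rho29 : rho (hh 29) = pm29 := CP.inj ((hH2 _).trans (by rw [(memH.get (i := 29) (by decide +kernel)).code_el]; exact ((beq_true_iff _ _).1 hchk255).symm))
theorem rho30 : rho (hh 30) = pm30 := CP.inj ((hH2 _).trans (by rw [(memH.get (i := 30) (by decide +kernel)).code_el]; exact ((beq_true_iff _ _).1 hchk256).symm))
theorem rho31 : rho (hh 31) = pm31 := CP.inj ((hH2 _).trans (by rw [(memH.get (i := 31) (by decide +kernel)).code_el]; exact ((beq_true_iff _ _).1 hchk257).symm))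
theorem rho32 : rho (hh 32) = pm32 := CP.inj ((hH2 _).trans (by rw [(memH.get (i := 32) (by decide +kernel)).code_el]; exact ((beq_true_iff _ _).1 hchk258).symm))
theorem rho33 : rho (hh 33) = pm33 := CP.inj ((hH2 _).trans (by rw [(memH.get (i := 33) (by decide +kernel)).code_el]; exact ((beq_true_iff _ _).1 hchk259).symm))
theorem rho34 : rho (hh 34) = pm34 := CP.inj ((hH2 _).trans (by rw [(memH.get (i := 34) (by decide +kernel)).code_el]; exact ((beq_true_iff _ _).1 hchk260).symm))
theorem rho35 : rho (hh 35) = pm35 := CP.inj ((hH2 _).trans (by rw [(memH.get (i := 35) (by decide +kernel)).code_el]; exact ((beq_true_iff _ _).1 hchk261).symm))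
theorem rho36 : rho (hh 36) = pm36 := CP.inj ((hH2 _).trans (by rw [(memH.get (i := 36) (by decide +kernel)).code_el]; exact ((beq_true_iff _ _).1 hchk262).symm))
theorem rho37 : rho (hh 37) = pm37 := CP.inj ((hH2 _).trans (by rw [(memH.get (i := 37) (by decide +kernel)).code_el]; exact ((beq_true_iff _ _).1 hchk263).symm))
theorem rho38 : rho (hh 38) = pm38 := CP.inj ((hH2 _).trans (by rw [(memH.get (i := 38) (by decide +kernel)).code_el]; exact ((beq_true_iff _ _).1 hchk264).symm))
theorem rho39 : rho (hh 39) = pm39 := CP.inj ((hH2 _).trans (by rw [(memH.get (i := 39) (by decide +kernel)).code_el]; exact ((beq_true_iff _ _).1 hchk265).symm))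
theorem rho40 : rho (hh 40) = pm40 := CP.inj ((hH2 _).trans (by rw [(memH.get (i := 40) (by decide +kernel)).code_el]; exact ((beq_true_iff _ _).1 hchk266).symm))
theorem rho41 : rho (hh 41) = pm41 := CP.inj ((hH2 _).trans (by rw [(memH.get (i := 41) (by decide +kernel)).code_el]; exact ((beq_true_iff _ _).1 hchk267).symm))
theorem rho42 : rho (hh 42) = pm42 := CP.inj ((hH2 _).trans (by rw [(memH.get (i := 42) (by decide +kernel)).code_el]; exact ((beq_true_iff _ _).1 hchk268).symm))
theorem rho43 : rho (hh 43) = pm43 := CP.inj ((hH2 _).trans (by rw [(memH.get (i := 43) (by decide +kernel)).code_el]; exact ((beq_true_iff _ _).1 hchk269).symm))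
theorem rho44 : rho (hh 44) = pm44 := CP.inj ((hH2 _).trans (by rw [(memH.get (i := 44) (by decide +kernel)).code_el]; exact ((beq_true_iff _ _).1 hchk270).symm))
theorem rho45 : rho (hh 45) = pm45 := CP.inj ((hH2 _).trans (by rw [(memH.get (i := 45) (by decide +kernel)).code_el]; exact ((beq_true_iff _ _).1 hchk271).symm))
theorem rho46 : rho (hh 46) = pm46 := CP.inj ((hH2 _).trans (by rw [(memH.get (i := 46) (by decide +kernel)).code_el]; exact ((beq_true_iff _ _).1 hchk272).symm))
theorem rho47 : rho (hh 47) = pm47 := CP.inj ((hH2 _).trans (by rw [(memH.get (i := 47) (by decide +kernel)).code_el]; exact ((beq_true_iff _ _).1 hchk273).symm))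
theorem rho48 : rho (hh 48) = pm48 := CP.inj ((hH2 _).trans (by rw [(memH.get (i := 48) (by decide +kernel)).code_el]; exact ((beq_true_iff _ _).1 hchk274).symm))
theorem rho49 : rho (hh 49) = pm49 := CP.inj ((hH2 _).trans (by rw [(memH.get (i := 49) (by decide +kernel)).code_el]; exact ((beq_true_iff _ _).1 hchk275).symm))
theorem rho50 : rho (hh 50) = pm50 := CP.inj ((hH2 _).trans (by rw [(memH.get (i := 50) (by decide +kernel)).code_el]; exact ((beq_true_iff _ _).1 hchk276).symm))
theorem rho51 : rho (hh 51) = pm51 := CP.inj ((hH2 _).trans (by rw [(memH.get (i := 51) (by decide +kernel)).code_el]; exact ((beq_true_iff _ _).1 hchk277).symm))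
theorem rho52 : rho (hh 52) = pm52 := CP.inj ((hH2 _).trans (by rw [(memH.get (i := 52) (by decide +kernel)).code_el]; exact ((beq_true_iff _ _).1 hchk278).symm))
theorem rho53 : rho (hh 53) = pm53 := CP.inj ((hH2 _).trans (by rw [(memH.get (i := 53) (by decide +kernel)).code_el]; exact ((beq_true_iff _ _).1 hchk279).symm))
theorem rho54 : rho (hh 54) = pm54 := CP.inj ((hH2 _).trans (by rw [(memH.get (i := 54) (by decide +kernel)).code_el]; exact ((beq_true_iff _ _).1 hchk280).symm))
theorem rho55 : rho (hh 55) = pm55 := CP.inj ((hH2 _).trans (by rw [(memH.get (i := 55) (by decide +kernel)).code_el]; exact ((beq_true_iff _ _).1 hchk281).symm))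
theorem rho56 : rho (hh 56) = pm56 := CP.inj ((hH2 _).trans (by rw [(memH.get (i := 56) (by decide +kernel)).code_el]; exact ((beq_true_iff _ _).1 hchk282).symm))
theorem rho57 : rho (hh 57) = pm57 := CP.inj ((hH2 _).trans (by rw [(memH.get (i := 57) (by decide +kernel)).code_el]; exact ((beq_true_iff _ _).1 hchk283).symm))
theorem rho58 : rho (hh 58) = pm58 := CP.inj ((hH2 _).trans (by rw [(memH.get (i := 58) (by decide +kernel)).code_el]; exact ((beq_true_iff _ _).1 hchk284).symm))
theorem rho59 : rho (hh 59) = pm59 := CP.inj ((hH2 _).trans (by rw [(memH.get (i := 59) (by decide +kernel)).code_el]; exact ((beq_true_iff _ _).1 hchk285).symm))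
theorem rho60 : rho (hh 60) = pm60 := CP.inj ((hH2 _).trans (by rw [(memH.get (i := 60) (by decide +kernel)).code_el]; exact ((beq_true_iff _ _).1 hchk286).symm))
theorem Aq_m0 : CP.Mem RH2 (CP.gen RH2 1150669704793161728) 1150669704793161728 := GC.Mem.gen (vH.map hH2).top
theorem hpt287e : ∃ x, E0.Rep hpt287c x := via_rep _ _ (act2_rep (n := 11) (d := 4) (by decide) (by decide) (c := 0x1) (by decide +kernel))
noncomputable def hpt287 := Classical.choose hpt287e
theorem hpt287r : E0.Rep hpt287c hpt287 := Classical.choose_spec hpt287e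
theorem hpt288e : ∃ x, E0.Rep hpt288c x := via_rep _ _ (act2_rep (n := 11) (d := 4) (by decide) (by decide) (c := 0x2) (by decide +kernel))
noncomputable def hpt288 := Classical.choose hpt288e
theorem hpt288r : E0.Rep hpt288c hpt288 := Classical.choose_spec hpt288e
theorem hpt289e : ∃ x, E0.Rep hpt289c x := via_rep _ _ (act2_rep (n := 11) (d := 4) (by decide) (by decide) (c := 0x80) (by decide +kernel))
noncomputable def hpt289 := Classical.choose hpt289e
theorem hpt289r : E0.Rep hpt289c hpt289 := Classical.choose_spec hpt289e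
theorem hpt290e : ∃ x, E0.Rep hpt290c x := via_rep _ _ (act2_rep (n := 11) (d := 4) (by decide) (by decide) (c := 0x10) (by decide +kernel))
noncomputable def hpt290 := Classical.choose hpt290e
theorem hpt290r : E0.Rep hpt290c hpt290 := Classical.choose_spec hpt290e
theorem hpt291e : ∃ x, E0.Rep hpt291c x := via_rep _ _ (act2_rep (n := 11) (d := 4) (by decide) (by decide) (c := 0x4) (by decide +kernel))
noncomputable def hpt291 := Classical.choose hpt291e
theorem hpt291r : E0.Rep hpt291c hpt291 := Classical.choose_spec hpt291e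
theorem hpt292e : ∃ x, E0.Rep hpt292c x := via_rep _ _ (act2_rep (n := 11) (d := 4) (by decide) (by decide) (c := 0x20) (by decide +kernel))
noncomputable def hpt292 := Classical.choose hpt292e
theorem hpt292r : E0.Rep hpt292c hpt292 := Classical.choose_spec hpt292e
theorem hpt293e : ∃ x, E0.Rep hpt293c x := via_rep _ _ (act2_rep (n := 11) (d := 4) (by decide) (by decide) (c := 0x100) (by decide +kernel))
noncomputable def hpt293 := Classical.choose hpt293e
theorem hpt293r : E0.Rep hpt293c hpt293 := Classical.choose_spec hpt293e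
theorem hpt294e : ∃ x, E0.Rep hpt294c x := via_rep _ _ (act2_rep (n := 11) (d := 4) (by decide) (by decide) (c := 0x40) (by decide +kernel))
noncomputable def hpt294 := Classical.choose hpt294e
theorem hpt294r : E0.Rep hpt294c hpt294 := Classical.choose_spec hpt294e
theorem hpt295e : ∃ x, E0.Rep hpt295c x := via_rep _ _ (act2_rep (n := 11) (d := 4) (by decide) (by decide) (c := 0x8) (by decide +kernel))
noncomputable def hpt295 := Classical.choose hpt295e
theorem hpt295r : E0.Rep hpt295c hpt295 := Classical.choose_spec hpt295e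
theorem hAq_s0_298 : CP.Mem RH2 (CP.gen RH2 1150669704793161728) 648720194666797546885642658512896 := Aq_m0.slp' hchk297
theorem Aq_c0i : CP.Mem RH2 (CP.gen RH2 1150669704793161728) 648720194666796396215937865351168 := hAq_s0_298.sub hchk299
theorem Aq_c0m : CP.Mem RH2 (CP.gen RH2 648720194666796396215937865351168) 648720194666796396215937865351168 := Aq_c0i.gen
theorem hfx301 : CP.gen RH2 648720194666796396215937865351168 ≤ stabilizer _ hpt287 := Act.fix_sound Aq_c0i.top hpt287r hchk300
theorem hcov308 : Cov (CP.gen RH2 1150669704793161728) (CP.wds RH2 [0]) hpt287 11 := Act.cov_of_seen (Act.pieces_sound hAq_s0_298 hAq_s0_298.top hpt287r hchk306) hchk307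
theorem Aq_c1i : CP.Mem RH2 (CP.gen RH2 648720194666796396215937865351168) 648403282016739338865563689549824 := Aq_c0m.sub hchk309
theorem Aq_c1m : CP.Mem RH2 (CP.gen RH2 648403282016739338865563689549824) 648403282016739338865563689549824 := Aq_c1i.gen
theorem hfx311 : CP.gen RH2 648403282016739338865563689549824 ≤ stabilizer _ hpt288 := Act.fix_sound Aq_c1i.top hpt288r hchk310
theorem hcov318 : Cov (CP.gen RH2 648720194666796396215937865351168) (CP.wds RH2 [0]) hpt288 10 := Act.cov_of_seen (Act.pieces_sound Aq_c0m Aq_c0m.top hpt288r hchk316) hchk317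
theorem Aq_c2i : CP.Mem RH2 (CP.gen RH2 648403282016739338865563689549824) 647769456716625224164815337947136 := Aq_c1m.sub hchk319
theorem Aq_c2m : CP.Mem RH2 (CP.gen RH2 647769456716625224164815337947136) 647769456716625224164815337947136 := Aq_c2i.gen
theorem hfx321 : CP.gen RH2 647769456716625224164815337947136 ≤ stabilizer _ hpt289 := Act.fix_sound Aq_c2i.top hpt289r hchk320
theorem hcov328 : Cov (CP.gen RH2 648403282016739338865563689549824) (CP.wds RH2 [0]) hpt289 9 := Act.cov_of_seen (Act.pieces_sound Aq_c1m Aq_c1m.top hpt289r hchk326) hchk327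
theorem Aq_c3i : CP.Mem RH2 (CP.gen RH2 647769456716625224164815337947136) 646501806116396994763318634741760 := Aq_c2m.sub hchk329
theorem Aq_c3m : CP.Mem RH2 (CP.gen RH2 646501806116396994763318634741760) 646501806116396994763318634741760 := Aq_c3i.gen
theorem hfx331 : CP.gen RH2 646501806116396994763318634741760 ≤ stabilizer _ hpt290 := Act.fix_sound Aq_c3i.top hpt290r hchk330
theorem hcov338 : Cov (CP.gen RH2 647769456716625224164815337947136) (CP.wds RH2 [0]) hpt290 8 := Act.cov_of_seen (Act.pieces_sound Aq_c2m Aq_c2m.top hpt290r hchk336) hchk337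
theorem Aq_c4i : CP.Mem RH2 (CP.gen RH2 646501806116396994763318634741760) 638895902515027618354338415509504 := Aq_c3m.sub hchk339
theorem Aq_c4m : CP.Mem RH2 (CP.gen RH2 638895902515027618354338415509504) 638895902515027618354338415509504 := Aq_c4i.gen
theorem hfx341 : CP.gen RH2 638895902515027618354338415509504 ≤ stabilizer _ hpt291 := Act.fix_sound Aq_c4i.top hpt291r hchk340
theorem hcov348 : Cov (CP.gen RH2 646501806116396994763318634741760) (CP.wds RH2 [0]) hpt291 7 := Act.cov_of_seen (Act.pieces_sound Aq_c3m Aq_c3m.top hpt291r hchk346) hchk347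
theorem Aq_c5i : CP.Mem RH2 (CP.gen RH2 638895902515027618354338415509504) 527342649694943431022628533436416 := Aq_c4m.sub hchk349
theorem Aq_c5m : CP.Mem RH2 (CP.gen RH2 527342649694943431022628533436416) 527342649694943431022628533436416 := Aq_c5i.gen
theorem hfx351 : CP.gen RH2 527342649694943431022628533436416 ≤ stabilizer _ hpt292 := Act.fix_sound Aq_c5i.top hpt292r hchk350
theorem hcov358 : Cov (CP.gen RH2 638895902515027618354338415509504) (CP.wds RH2 [0]) hpt292 6 := Act.cov_of_seen (Act.pieces_sound Aq_c4m Aq_c4m.top hpt292r hchk356) hchk357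
theorem Aq_c6i : CP.Mem RH2 (CP.gen RH2 527342649694943431022628533436416) 486777830487640090174734030864384 := Aq_c5m.sub hchk359
theorem Aq_c6m : CP.Mem RH2 (CP.gen RH2 486777830487640090174734030864384) 486777830487640090174734030864384 := Aq_c6i.gen
theorem hfx361 : CP.gen RH2 486777830487640090174734030864384 ≤ stabilizer _ hpt293 := Act.fix_sound Aq_c6i.top hpt293r hchk360
theorem hcov368 : Cov (CP.gen RH2 527342649694943431022628533436416) (CP.wds RH2 [0]) hpt293 5 := Act.cov_of_seen (Act.pieces_sound Aq_c5m Aq_c5m.top hpt293r hchk366) hchk367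
theorem Aq_c7i : CP.Mem RH2 (CP.gen RH2 486777830487640090174734030864384) 324518553658426726783156020576256 := Aq_c6m.sub hchk369
theorem Aq_c7m : CP.Mem RH2 (CP.gen RH2 324518553658426726783156020576256) 324518553658426726783156020576256 := Aq_c7i.gen
theorem hfx371 : CP.gen RH2 324518553658426726783156020576256 ≤ stabilizer _ hpt294 := Act.fix_sound Aq_c7i.top hpt294r hchk370
theorem hcov378 : Cov (CP.gen RH2 486777830487640090174734030864384) (CP.wds RH2 [0]) hpt294 4 := Act.cov_of_seen (Act.pieces_sound Aq_c6m Aq_c6m.top hpt294r hchk376) hchk377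
theorem Aq_c8i : CP.Mem RH2 (CP.gen RH2 324518553658426726783156020576256) 0 := Aq_c7m.sub hchk379
theorem Aq_c8m : CP.Mem RH2 (CP.gen RH2 0) 0 := Aq_c8i.gen
theorem hfx381 : CP.gen RH2 0 ≤ stabilizer _ hpt295 := Act.fix_sound Aq_c8i.top hpt295r hchk380
theorem hcov388 : Cov (CP.gen RH2 324518553658426726783156020576256) (CP.wds RH2 [0]) hpt295 3 := Act.cov_of_seen (Act.pieces_sound Aq_c7m Aq_c7m.top hpt295r hchk386) hchk387
theorem Aq_lb9 : 1 ≤ Nat.card (CP.gen RH2 0) := Nat.card_pos
theorem Aq_lo8 : 3 * Nat.card (CP.gen RH2 0) ≤ Nat.card (CP.gen RH2 324518553658426726783156020576256) := hcov388.low le_rfl (GC.wds_zero _) Aq_c8i.gen_le hfx381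
theorem Aq_lb8 : 3 ≤ Nat.card (CP.gen RH2 324518553658426726783156020576256) := low_step Aq_lo8 Aq_lb9 (by decide +kernel)
theorem Aq_lo7 : 4 * Nat.card (CP.gen RH2 324518553658426726783156020576256) ≤ Nat.card (CP.gen RH2 486777830487640090174734030864384) := hcov378.low le_rfl (GC.wds_zero _) Aq_c7i.gen_le hfx371
theorem Aq_lb7 : 12 ≤ Nat.card (CP.gen RH2 486777830487640090174734030864384) := low_step Aq_lo7 Aq_lb8 (by decide +kernel)
theorem Aq_lo6 : 5 * Nat.card (CP.gen RH2 486777830487640090174734030864384) ≤ Nat.card (CP.gen RH2 527342649694943431022628533436416) := hcov368.low le_rfl (GC.wds_zero _) Aq_c6i.gen_le hfx361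
theorem Aq_lb6 : 60 ≤ Nat.card (CP.gen RH2 527342649694943431022628533436416) := low_step Aq_lo6 Aq_lb7 (by decide +kernel)
theorem Aq_lo5 : 6 * Nat.card (CP.gen RH2 527342649694943431022628533436416) ≤ Nat.card (CP.gen RH2 638895902515027618354338415509504) := hcov358.low le_rfl (GC.wds_zero _) Aq_c5i.gen_le hfx351
theorem Aq_lb5 : 360 ≤ Nat.card (CP.gen RH2 638895902515027618354338415509504) := low_step Aq_lo5 Aq_lb6 (by decide +kernel)
theorem Aq_lo4 : 7 * Nat.card (CP.gen RH2 638895902515027618354338415509504) ≤ Nat.card (CP.gen RH2 646501806116396994763318634741760) := hcov348.low le_rfl (GC.wds_zero _) Aq_c4i.gen_le hfx341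
theorem Aq_lb4 : 2520 ≤ Nat.card (CP.gen RH2 646501806116396994763318634741760) := low_step Aq_lo4 Aq_lb5 (by decide +kernel)
theorem Aq_lo3 : 8 * Nat.card (CP.gen RH2 646501806116396994763318634741760) ≤ Nat.card (CP.gen RH2 647769456716625224164815337947136) := hcov338.low le_rfl (GC.wds_zero _) Aq_c3i.gen_le hfx331
theorem Aq_lb3 : 20160 ≤ Nat.card (CP.gen RH2 647769456716625224164815337947136) := low_step Aq_lo3 Aq_lb4 (by decide +kernel)
theorem Aq_lo2 : 9 * Nat.card (CP.gen RH2 647769456716625224164815337947136) ≤ Nat.card (CP.gen RH2 648403282016739338865563689549824) := hcov328.low le_rfl (GC.wds_zero _) Aq_c2i.gen_le hfx321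
theorem Aq_lb2 : 181440 ≤ Nat.card (CP.gen RH2 648403282016739338865563689549824) := low_step Aq_lo2 Aq_lb3 (by decide +kernel)
theorem Aq_lo1 : 10 * Nat.card (CP.gen RH2 648403282016739338865563689549824) ≤ Nat.card (CP.gen RH2 648720194666796396215937865351168) := hcov318.low le_rfl (GC.wds_zero _) Aq_c1i.gen_le hfx311
theorem Aq_lb1 : 1814400 ≤ Nat.card (CP.gen RH2 648720194666796396215937865351168) := low_step Aq_lo1 Aq_lb2 (by decide +kernel)
theorem Aq_lo0 : 11 * Nat.card (CP.gen RH2 648720194666796396215937865351168) ≤ Nat.card (CP.gen RH2 1150669704793161728) := hcov308.low le_rfl (GC.wds_zero _) Aq_c0i.gen_le hfx301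
theorem Aq_lb0 : 19958400 ≤ Nat.card (CP.gen RH2 1150669704793161728) := low_step Aq_lo0 Aq_lb1 (by decide +kernel)
theorem rho_range : rho.range = alternatingGroup (Fin 11) := by
  have e : (CP.gen RH2 1150669704793161728) = rho.range := by rw [MonoidHom.range_eq_map, ← topH]; exact vH.gen_map hH2
  have h1 : rho.range ≤ alternatingGroup (Fin 11) := by
    rw [MonoidHom.range_eq_map, ← closH, map_le_iff_le_comap, closure_le]
    rintro _ ⟨i, hi, rfl⟩
    have h3 := congrArg (fun g => Equiv.Perm.sign (rho g)) (carH3 i hi)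
    simp only [map_pow, map_one] at h3
    show Equiv.Perm.sign _ = 1
    rcases Int.units_eq_one_or (Equiv.Perm.sign (rho (hh (51 + i)))) with h | h
    · exact h
    · rw [h] at h3; exact absurd h3 (by decide)
  refine eq_of_le_of_card_ge h1 ?_
  have := two_mul_nat_card_alternatingGroup (α := Fin 11)
  rw [Nat.card_perm, Nat.card_eq_fintype_card (α := Fin 11), Fintype.card_fin, show Nat.factorial 11 = 2 * 19958400 by decide] at this
  have h2 := Aq_lb0
  rw [e] at h2
  omega
theorem rho_ker (g : H6) (hg : rho g = 1) : g = 1 ∨ g = hh 9 := by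
  have e : (CP.gen RH2 1150669704793161728) = rho.range := by rw [MonoidHom.range_eq_map, ← topH]; exact vH.gen_map hH2
  have h2 := Aq_lb0
  rw [e] at h2
  have h1 := rho.ker.index_mul_card
  rw [index_ker] at h1
  have h3 := H6_ub
  have h4 : Nat.card rho.ker ≤ 2 := by nlinarith
  by_contra hn
  push Not at hn
  have h9 : rho (hh 9) = 1 := rho9.trans (by decide)
  have : ({1, hh 9, g} : Set H6).ncard ≤ Nat.card rho.ker := Set.ncard_le_ncard (t := (rho.ker : Set H6)) (by
    intro a ha
    simp only [Set.mem_insert_iff, Set.mem_singleton_iff] at ha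
    rcases ha with rfl | rfl | rfl
    exacts [one_mem _, h9, hg]) (Set.toFinite _)
  rw [Set.ncard_eq_three.2 ⟨_, _, _, t_ne.symm, hn.1.symm, hn.2.symm, rfl⟩] at this
  omega
end

end CfsgLY
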