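import Cfsg.Agent.LY.HD0

set_option autoImplicit false
set_option maxRecDepth 100000
set_option linter.all false
set_option Elab.async false

namespace CfsgLY

open CfsgH5 CfsgH6 Subgroup MulAction Pointwise

noncomputable section

theorem hchk2 : band (allL hl1 fun e => band (P16.canF (force (hd e) RH1)) (band (Nat.ble 1 (tl e)) (Nat.beq (powC P16.ops (force (hd e) RH1) (tl e)) P16.ops.one))) (subM 1150669704793161728 (insL hl1 0)) = true := by decide +kernel
theorem hchk5 : Nat.beq (CP.code hpm4) (RH2 51) = true := by decide +kernel
theorem hchk7 : Nat.beq (CP.code hpm6) (RH2 52) = true := by decide +kernel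
theorem hchk9 : Nat.beq (CP.code hpm8) (RH2 53) = true := by decide +kernel
theorem hchk11 : Nat.beq (CP.code hpm10) (RH2 54) = true := by decide +kernel
theorem hchk13 : Nat.beq (CP.code hpm12) (RH2 55) = true := by decide +kernel
theorem hchk15 : Nat.beq (CP.code hpm14) (RH2 56) = true := by decide +kernel
theorem hchk17 : Nat.beq (CP.code hpm16) (RH2 57) = true := by decide +kernel
theorem hchk19 : Nat.beq (CP.code hpm18) (RH2 58) = true := by decide +kernel
theorem hchk21 : Nat.beq (CP.code hpm20) (RH2 59) = true := by decide +kernel
theorem hchk34 : band (slp OH RH hl33 1150669704793161728) (subM 75557861474114509734398 (insL hl33 1150669704793161728)) = true := by decide +kernel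
theorem hchk36 : subM 75556132091857599463424 75557861474114509734398 = true := by decide +kernel
theorem hchk37 : band (fixL (fun c v => (fun c v => (app2 11 12 4) ((fun x => x) c) v) (pr2 4096 c) v) (fun x => x) RH [51, 52, 53, 54, 55, 56, 57, 58, 61, 62, 63, 64, 65, 66, 67, 68, 69, 70, 71, 72, 73, 74, 75] hpt23c) (subM 75556132091857599463424 (insL [51, 52, 53, 54, 55, 56, 57, 58, 61, 62, 63, 64, 65, 66, 67, 68, 69, 70, 71, 72, 73, 74, 75] 0)) = true := by decide +kernel
theorem hchk43 : band (pieces (fun c v => (fun c v => (app2 11 12 4) ((fun x => x) c) v) (pr2 4096 c) v) (fun x => x) htab41 RH 75557861474114509734398 [51, 59, 52, 53, 54, 55, 56, 57, 58] hpt23c hl42) (allL hl42 fun p => subW 75557861474114509734398 p.2.1) = true := by decide +kernel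
theorem hchk44 : cover 11 [0] (hl42) 0 = true := by decide +kernel
theorem hchk46 : subM 75555557882905109725184 75556132091857599463424 = true := by decide +kernel
theorem hchk47 : band (fixL (fun c v => (fun c v => (app2 11 12 4) ((fun x => x) c) v) (pr2 4096 c) v) (fun x => x) RH [61, 62, 63, 64, 65, 66, 67, 68, 69, 70, 71, 72, 73, 74, 75] hpt24c) (subM 75555557882905109725184 (insL [61, 62, 63, 64, 65, 66, 67, 68, 69, 70, 71, 72, 73, 74, 75] 0)) = true := by decide +kernel
theorem hchk53 : band (pieces (fun c v => (fun c v => (app2 11 12 4) ((fun x => x) c) v) (pr2 4096 c) v) (fun x => x) htab51 RH 75556132091857599463424 [51, 52, 53, 54, 55, 56, 57, 58] hpt24c hl52) (allL hl52 fun p => subW 75556132091857599463424 p.2.1) = true := by decide +kernel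
theorem hchk54 : cover 10 [0] (hl52) 0 = true := by decide +kernel
theorem hchk56 : subM 75553252039895896031232 75555557882905109725184 = true := by decide +kernel
theorem hchk57 : band (fixL (fun c v => (fun c v => (app2 11 12 4) ((fun x => x) c) v) (pr2 4096 c) v) (fun x => x) RH [62, 63, 64, 65, 66, 67, 68, 69, 70, 71, 72, 73, 74, 75] hpt25c) (subM 75553252039895896031232 (insL [62, 63, 64, 65, 66, 67, 68, 69, 70, 71, 72, 73, 74, 75] 0)) = true := by decide +kernel
theorem hchk63 : band (pieces (fun c v => (fun c v => (app2 11 12 4) ((fun x => x) c) v) (pr2 4096 c) v) (fun x => x) htab61 RH 75555557882905109725184 [61, 62, 63, 64, 65, 66, 67, 68, 69, 70, 71, 72, 73, 74, 75] hpt25c hl62) (allL hl62 fun p => subW 75555557882905109725184 p.2.1) = true := by decide +kernel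
theorem hchk64 : cover 9 [0] (hl62) 0 = true := by decide +kernel
theorem hchk66 : subM 73012213043742405296128 75553252039895896031232 = true := by decide +kernel
theorem hchk67 : band (fixL (fun c v => (fun c v => (app2 11 12 4) ((fun x => x) c) v) (pr2 4096 c) v) (fun x => x) RH [65, 66, 68, 69, 70, 72, 73, 74, 75] hpt26c) (subM 73012213043742405296128 (insL [65, 66, 68, 69, 70, 72, 73, 74, 75] 0)) = true := by decide +kernel
theorem hchk73 : band (pieces (fun c v => (fun c v => (app2 11 12 4) ((fun x => x) c) v) (pr2 4096 c) v) (fun x => x) htab71 RH 75553252039895896031232 [62, 63, 64, 65, 66, 67, 68, 69, 70, 71, 72, 73, 74, 75] hpt26c hl72) (allL hl72 fun p => subW 75553252039895896031232 p.2.1) = true := by decide +kernel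
theorem hchk74 : cover 8 [0] (hl72) 0 = true := by decide +kernel
theorem hchk76 : subM 68252953072725340979200 73012213043742405296128 = true := by decide +kernel
theorem hchk77 : band (fixL (fun c v => (fun c v => (app2 11 12 4) ((fun x => x) c) v) (pr2 4096 c) v) (fun x => x) RH [66, 68, 69, 70, 73, 74, 75] hpt27c) (subM 68252953072725340979200 (insL [66, 68, 69, 70, 73, 74, 75] 0)) = true := by decide +kernel
theorem hchk83 : band (pieces (fun c v => (fun c v => (app2 11 12 4) ((fun x => x) c) v) (pr2 4096 c) v) (fun x => x) htab81 RH 73012213043742405296128 [65, 66, 68, 69, 70, 72, 73, 74, 75] hpt27c hl82) (allL hl82 fun p => subW 73012213043742405296128 p.2.1) = true := by decide +kernel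
theorem hchk84 : cover 7 [0] (hl82) 0 = true := by decide +kernel
theorem hchk86 : subM 67884018191251149946880 68252953072725340979200 = true := by decide +kernel
theorem hchk87 : band (fixL (fun c v => (fun c v => (app2 11 12 4) ((fun x => x) c) v) (pr2 4096 c) v) (fun x => x) RH [69, 70, 73, 74, 75] hpt28c) (subM 67884018191251149946880 (insL [69, 70, 73, 74, 75] 0)) = true := by decide +kernel
theorem hchk93 : band (pieces (fun c v => (fun c v => (app2 11 12 4) ((fun x => x) c) v) (pr2 4096 c) v) (fun x => x) htab91 RH 68252953072725340979200 [66, 68, 69, 70, 73, 74, 75] hpt28c hl92) (allL hl92 fun p => subW 68252953072725340979200 p.2.1) = true := by decide +kernel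
theorem hchk94 : cover 6 [0] (hl92) 0 = true := by decide +kernel
theorem hchk96 : subM 67293722380892444295168 67884018191251149946880 = true := by decide +kernel
theorem hchk97 : band (fixL (fun c v => (fun c v => (app2 11 12 4) ((fun x => x) c) v) (pr2 4096 c) v) (fun x => x) RH [70, 73, 74, 75] hpt29c) (subM 67293722380892444295168 (insL [70, 73, 74, 75] 0)) = true := by decide +kernel
theorem hchk103 : band (pieces (fun c v => (fun c v => (app2 11 12 4) ((fun x => x) c) v) (pr2 4096 c) v) (fun x => x) htab101 RH 67884018191251149946880 [69, 70, 73, 74, 75] hpt29c hl102) (allL hl102 fun p => subW 67884018191251149946880 p.2.1) = true := by decide +kernel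
theorem hchk104 : cover 5 [0] (hl102) 0 = true := by decide +kernel
theorem hchk106 : subM 56668397794435742564352 67293722380892444295168 = true := by decide +kernel
theorem hchk107 : band (fixL (fun c v => (fun c v => (app2 11 12 4) ((fun x => x) c) v) (pr2 4096 c) v) (fun x => x) RH [74, 75] hpt30c) (subM 56668397794435742564352 (insL [74, 75] 0)) = true := by decide +kernel
theorem hchk113 : band (pieces (fun c v => (fun c v => (app2 11 12 4) ((fun x => x) c) v) (pr2 4096 c) v) (fun x => x) htab111 RH 67293722380892444295168 [70, 73, 74, 75] hpt30c hl112) (allL hl112 fun p => subW 67293722380892444295168 p.2.1) = true := by decide +kernel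
theorem hchk114 : cover 4 [0] (hl112) 0 = true := by decide +kernel
theorem hchk116 : subM 37778931862957161709568 56668397794435742564352 = true := by decide +kernel
theorem hchk117 : band (fixL (fun c v => (fun c v => (app2 11 12 4) ((fun x => x) c) v) (pr2 4096 c) v) (fun x => x) RH [75] hpt31c) (subM 37778931862957161709568 (insL [75] 0)) = true := by decide +kernel
theorem hchk123 : band (pieces (fun c v => (fun c v => (app2 11 12 4) ((fun x => x) c) v) (pr2 4096 c) v) (fun x => x) htab121 RH 56668397794435742564352 [74, 75] hpt31c hl122) (allL hl122 fun p => subW 56668397794435742564352 p.2.1) = true := by decide +kernel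
theorem hchk124 : cover 3 [0] (hl122) 0 = true := by decide +kernel
theorem hchk126 : subM 0 37778931862957161709568 = true := by decide +kernel
theorem hchk127 : band (fixL (fun c v => P16.app (pr1 4096 c) v) (fun x => x) RH [] hpt32c) (subM 0 (insL [] 0)) = true := by decide +kernel
theorem hchk133 : band (pieces (fun c v => P16.app (pr1 4096 c) v) (fun x => x) htab131 RH 37778931862957161709568 [75] hpt32c hl132) (allL hl132 fun p => subW 37778931862957161709568 p.2.1) = true := by decide +kernel
theorem hchk134 : cover 2 [0] (hl132) 0 = true := by decide +kernel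
theorem hchk136 : slpL OH RH LC0 254 = true := by decide +kernel
theorem hchk137 : slpL OH RH LC1 (Nat.lor 256 (insP LC0 254)) = true := by decide +kernel
theorem hchk146 : band (slp OH RH hl145 126) (subM 38610068363942219267178622 (insL hl145 126)) = true := by decide +kernel
theorem hchk148 : subM 38610068363942219267178496 38610068363942219267178622 = true := by decide +kernel
theorem hchk149 : band (fixL (fun c v => (fun c v => (app2 11 12 4) ((fun x => x) c) v) (pr2 4096 c) v) (fun x => x) RH [76, 77, 78, 79, 80, 81, 82, 83, 84] hpt138c) (subM 38610068363942219267178496 (insL [76, 77, 78, 79, 80, 81, 82, 83, 84] 0)) = true := by decide +kernel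
theorem hchk155 : band (pieces (fun c v => (fun c v => (app2 11 12 4) ((fun x => x) c) v) (pr2 4096 c) v) (fun x => x) htab153 RH 38610068363942219267178622 [1, 2, 3, 4, 5, 6, 76, 77, 78, 79, 80, 81, 82, 83, 84] hpt138c hl154) (allL hl154 fun p => subW 38610068363942219267178622 p.2.1) = true := by decide +kernel
theorem hchk156 : cover 8 [0] (hl154) 0 = true := by decide +kernel
theorem hchk158 : subM 38534510500216304943759360 38610068363942219267178496 = true := by decide +kernel
theorem hchk159 : band (fixL (fun c v => (fun c v => (app2 11 12 4) ((fun x => x) c) v) (pr2 4096 c) v) (fun x => x) RH [77, 78, 79, 80, 81, 82, 83, 84] hpt139c) (subM 38534510500216304943759360 (insL [77, 78, 79, 80, 81, 82, 83, 84] 0)) = true := by decide +kernel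
theorem hchk165 : band (pieces (fun c v => (fun c v => (app2 11 12 4) ((fun x => x) c) v) (pr2 4096 c) v) (fun x => x) htab163 RH 38610068363942219267178496 [76, 77, 78, 79, 80, 81, 82, 83, 84] hpt139c hl164) (allL hl164 fun p => subW 38610068363942219267178496 p.2.1) = true := by decide +kernel
theorem hchk166 : cover 7 [0] (hl164) 0 = true := by decide +kernel
theorem hchk168 : subM 35663311678631560653832192 38534510500216304943759360 = true := by decide +kernel
theorem hchk169 : band (fixL (fun c v => (fun c v => (app2 11 12 4) ((fun x => x) c) v) (pr2 4096 c) v) (fun x => x) RH [79, 80, 82, 83, 84] hpt140c) (subM 35663311678631560653832192 (insL [79, 80, 82, 83, 84] 0)) = true := by decide +kernel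
theorem hchk175 : band (pieces (fun c v => (fun c v => (app2 11 12 4) ((fun x => x) c) v) (pr2 4096 c) v) (fun x => x) htab173 RH 38534510500216304943759360 [77, 78, 79, 80, 81, 82, 83, 84] hpt140c hl174) (allL hl174 fun p => subW 38534510500216304943759360 p.2.1) = true := by decide +kernel
theorem hchk176 : cover 6 [0] (hl174) 0 = true := by decide +kernel
theorem hchk178 : subM 30223145490365729367654400 35663311678631560653832192 = true := by decide +kernel
theorem hchk179 : band (fixL (fun c v => (fun c v => (app2 11 12 4) ((fun x => x) c) v) (pr2 4096 c) v) (fun x => x) RH [80, 83, 84] hpt141c) (subM 30223145490365729367654400 (insL [80, 83, 84] 0)) = true := by decide +kernel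
theorem hchk185 : band (pieces (fun c v => (fun c v => (app2 11 12 4) ((fun x => x) c) v) (pr2 4096 c) v) (fun x => x) htab183 RH 35663311678631560653832192 [79, 80, 82, 83, 84] hpt141c hl184) (allL hl184 fun p => subW 35663311678631560653832192 p.2.1) = true := by decide +kernel
theorem hchk186 : cover 5 [0] (hl184) 0 = true := by decide +kernel
theorem hchk188 : subM 29014219670751100192948224 30223145490365729367654400 = true := by decide +kernel
theorem hchk189 : band (fixL (fun c v => (fun c v => (app2 11 12 4) ((fun x => x) c) v) (pr2 4096 c) v) (fun x => x) RH [83, 84] hpt142c) (subM 29014219670751100192948224 (insL [83, 84] 0)) = true := by decide +kernel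
theorem hchk195 : band (pieces (fun c v => (fun c v => (app2 11 12 4) ((fun x => x) c) v) (pr2 4096 c) v) (fun x => x) htab193 RH 30223145490365729367654400 [80, 83, 84] hpt142c hl194) (allL hl194 fun p => subW 30223145490365729367654400 p.2.1) = true := by decide +kernel
theorem hchk196 : cover 4 [0] (hl194) 0 = true := by decide +kernel
theorem hchk198 : subM 19342813113834066795298816 29014219670751100192948224 = true := by decide +kernel
theorem hchk199 : band (fixL (fun c v => (fun c v => (app2 11 12 4) ((fun x => x) c) v) (pr2 4096 c) v) (fun x => x) RH [84] hpt143c) (subM 19342813113834066795298816 (insL [84] 0)) = true := by decide +kernel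
theorem hchk205 : band (pieces (fun c v => (fun c v => (app2 11 12 4) ((fun x => x) c) v) (pr2 4096 c) v) (fun x => x) htab203 RH 29014219670751100192948224 [83, 84] hpt143c hl204) (allL hl204 fun p => subW 29014219670751100192948224 p.2.1) = true := by decide +kernel
theorem hchk206 : cover 3 [0] (hl204) 0 = true := by decide +kernel
theorem hchk208 : subM 0 19342813113834066795298816 = true := by decide +kernel
theorem hchk209 : band (fixL (fun c v => P16.app (pr1 4096 c) v) (fun x => x) RH [] hpt144c) (subM 0 (insL [] 0)) = true := by decide +kernel
theorem hchk215 : band (pieces (fun c v => P16.app (pr1 4096 c) v) (fun x => x) htab213 RH 19342813113834066795298816 [84] hpt144c hl214) (allL hl214 fun p => subW 19342813113834066795298816 p.2.1) = true := by decide +kernel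
theorem hchk216 : cover 2 [0] (hl214) 0 = true := by decide +kernel
theorem hchk219 : band (slp OH RH hl218 38610068363942219267178622) (subM 75553252039895896031232 (insL hl218 38610068363942219267178622)) = true := by decide +kernel
theorem hchk222 : band (slp OH RH hl221 1152921504606847486) (subM 316873964431982603745192051198 (insL hl221 1152921504606847486)) = true := by decide +kernel
theorem hchk225 : band (slp OH RH hl224 316873964431982603745192051198) (subM 1150669704793161728 (insL hl224 316873964431982603745192051198)) = true := by decide +kernel
theorem hchk227 : Nat.beq (CP.code pm1) (RH2 1) = true := by decide +kernel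
theorem hchk228 : Nat.beq (CP.code pm2) (RH2 2) = true := by decide +kernel
theorem hchk229 : Nat.beq (CP.code pm3) (RH2 3) = true := by decide +kernel
theorem hchk230 : Nat.beq (CP.code pm4) (RH2 4) = true := by decide +kernel
theorem hchk231 : Nat.beq (CP.code pm5) (RH2 5) = true := by decide +kernel
theorem hchk232 : Nat.beq (CP.code pm6) (RH2 6) = true := by decide +kernel
theorem hchk233 : Nat.beq (CP.code pm7) (RH2 7) = true := by decide +kernel
theorem hchk234 : Nat.beq (CP.code pm8) (RH2 8) = true := by decide +kernel
theorem hchk235 : Nat.beq (CP.code pm9) (RH2 9) = true := by decide +kernel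
theorem hchk236 : Nat.beq (CP.code pm10) (RH2 10) = true := by decide +kernel
theorem hchk237 : Nat.beq (CP.code pm11) (RH2 11) = true := by decide +kernel
theorem hchk238 : Nat.beq (CP.code pm12) (RH2 12) = true := by decide +kernel
theorem hchk239 : Nat.beq (CP.code pm13) (RH2 13) = true := by decide +kernel
theorem hchk240 : Nat.beq (CP.code pm14) (RH2 14) = true := by decide +kernel
theorem hchk241 : Nat.beq (CP.code pm15) (RH2 15) = true := by decide +kernel
theorem hchk242 : Nat.beq (CP.code pm16) (RH2 16) = true := by decide +kernel
theorem hchk243 : Nat.beq (CP.code pm17) (RH2 17) = true := by decide +kernel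
theorem hchk244 : Nat.beq (CP.code pm18) (RH2 18) = true := by decide +kernel
theorem hchk245 : Nat.beq (CP.code pm19) (RH2 19) = true := by decide +kernel
theorem hchk246 : Nat.beq (CP.code pm20) (RH2 20) = true := by decide +kernel
theorem hchk247 : Nat.beq (CP.code pm21) (RH2 21) = true := by decide +kernel
theorem hchk248 : Nat.beq (CP.code pm22) (RH2 22) = true := by decide +kernel
theorem hchk249 : Nat.beq (CP.code pm23) (RH2 23) = true := by decide +kernel
theorem hchk250 : Nat.beq (CP.code pm24) (RH2 24) = true := by decide +kernel
theorem hchk251 : Nat.beq (CP.code pm25) (RH2 25) = true := by decide +kernel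
theorem hchk252 : Nat.beq (CP.code pm26) (RH2 26) = true := by decide +kernel
theorem hchk253 : Nat.beq (CP.code pm27) (RH2 27) = true := by decide +kernel
theorem hchk254 : Nat.beq (CP.code pm28) (RH2 28) = true := by decide +kernel
theorem hchk255 : Nat.beq (CP.code pm29) (RH2 29) = true := by decide +kernel
theorem hchk256 : Nat.beq (CP.code pm30) (RH2 30) = true := by decide +kernel
theorem hchk257 : Nat.beq (CP.code pm31) (RH2 31) = true := by decide +kernel
theorem hchk258 : Nat.beq (CP.code pm32) (RH2 32) = true := by decide +kernel
theorem hchk259 : Nat.beq (CP.code pm33) (RH2 33) = true := by decide +kernel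
theorem hchk260 : Nat.beq (CP.code pm34) (RH2 34) = true := by decide +kernel
theorem hchk261 : Nat.beq (CP.code pm35) (RH2 35) = true := by decide +kernel
theorem hchk262 : Nat.beq (CP.code pm36) (RH2 36) = true := by decide +kernel
theorem hchk263 : Nat.beq (CP.code pm37) (RH2 37) = true := by decide +kernel
theorem hchk264 : Nat.beq (CP.code pm38) (RH2 38) = true := by decide +kernel
theorem hchk265 : Nat.beq (CP.code pm39) (RH2 39) = true := by decide +kernel
theorem hchk266 : Nat.beq (CP.code pm40) (RH2 40) = true := by decide +kernel
theorem hchk267 : Nat.beq (CP.code pm41) (RH2 41) = true := by decide +kernel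
theorem hchk268 : Nat.beq (CP.code pm42) (RH2 42) = true := by decide +kernel
theorem hchk269 : Nat.beq (CP.code pm43) (RH2 43) = true := by decide +kernel
theorem hchk270 : Nat.beq (CP.code pm44) (RH2 44) = true := by decide +kernel
theorem hchk271 : Nat.beq (CP.code pm45) (RH2 45) = true := by decide +kernel
theorem hchk272 : Nat.beq (CP.code pm46) (RH2 46) = true := by decide +kernel
theorem hchk273 : Nat.beq (CP.code pm47) (RH2 47) = true := by decide +kernel
theorem hchk274 : Nat.beq (CP.code pm48) (RH2 48) = true := by decide +kernel
theorem hchk275 : Nat.beq (CP.code pm49) (RH2 49) = true := by decide +kernel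
theorem hchk276 : Nat.beq (CP.code pm50) (RH2 50) = true := by decide +kernel
theorem hchk277 : Nat.beq (CP.code pm51) (RH2 51) = true := by decide +kernel
theorem hchk278 : Nat.beq (CP.code pm52) (RH2 52) = true := by decide +kernel
theorem hchk279 : Nat.beq (CP.code pm53) (RH2 53) = true := by decide +kernel
theorem hchk280 : Nat.beq (CP.code pm54) (RH2 54) = true := by decide +kernel
theorem hchk281 : Nat.beq (CP.code pm55) (RH2 55) = true := by decide +kernel
theorem hchk282 : Nat.beq (CP.code pm56) (RH2 56) = true := by decide +kernel
theorem hchk283 : Nat.beq (CP.code pm57) (RH2 57) = true := by decide +kernel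
theorem hchk284 : Nat.beq (CP.code pm58) (RH2 58) = true := by decide +kernel
theorem hchk285 : Nat.beq (CP.code pm59) (RH2 59) = true := by decide +kernel
theorem hchk286 : Nat.beq (CP.code pm60) (RH2 60) = true := by decide +kernel
theorem hchk297 : band (slp (ops2 11) RH2 hl296 1150669704793161728) (subM 648720194666797546885642658512896 (insL hl296 1150669704793161728)) = true := by decide +kernel
theorem hchk299 : subM 648720194666796396215937865351168 648720194666797546885642658512896 = true := by decide +kernel
theorem hchk300 : band (fixL (fun c v => (app2 11 12 4) ((fun x => x) c) v) (fun x => x) RH2 [98, 99, 100, 101, 102, 103, 104, 105, 106, 107, 108] hpt287c) (subM 648720194666796396215937865351168 (insL [98, 99, 100, 101, 102, 103, 104, 105, 106, 107, 108] 0)) = true := by decide +kernel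
theorem hchk306 : band (pieces (fun c v => (app2 11 12 4) ((fun x => x) c) v) (fun x => x) htab304 RH2 648720194666797546885642658512896 [51, 102, 107, 52, 53, 54, 55, 58, 59] hpt287c hl305) (allL hl305 fun p => subW 648720194666797546885642658512896 p.2.1) = true := by decide +kernel
theorem hchk307 : cover 11 [0] (hl305) 0 = true := by decide +kernel
theorem hchk309 : subM 648403282016739338865563689549824 648720194666796396215937865351168 = true := by decide +kernel
theorem hchk310 : band (fixL (fun c v => (app2 11 12 4) ((fun x => x) c) v) (fun x => x) RH2 [99, 100, 101, 102, 103, 104, 105, 106, 107, 108] hpt288c) (subM 648403282016739338865563689549824 (insL [99, 100, 101, 102, 103, 104, 105, 106, 107, 108] 0)) = true := by decide +kernel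
theorem hchk316 : band (pieces (fun c v => (app2 11 12 4) ((fun x => x) c) v) (fun x => x) htab314 RH2 648720194666796396215937865351168 [98, 99, 100, 101, 102, 103, 104, 105, 106, 107, 108] hpt288c hl315) (allL hl315 fun p => subW 648720194666796396215937865351168 p.2.1) = true := by decide +kernel
theorem hchk317 : cover 10 [0] (hl315) 0 = true := by decide +kernel
theorem hchk319 : subM 647769456716625224164815337947136 648403282016739338865563689549824 = true := by decide +kernel
theorem hchk320 : band (fixL (fun c v => (app2 11 12 4) ((fun x => x) c) v) (fun x => x) RH2 [100, 101, 102, 103, 104, 105, 106, 107, 108] hpt289c) (subM 647769456716625224164815337947136 (insL [100, 101, 102, 103, 104, 105, 106, 107, 108] 0)) = true := by decide +kernel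
theorem hchk326 : band (pieces (fun c v => (app2 11 12 4) ((fun x => x) c) v) (fun x => x) htab324 RH2 648403282016739338865563689549824 [99, 100, 101, 102, 103, 104, 105, 106, 107, 108] hpt289c hl325) (allL hl325 fun p => subW 648403282016739338865563689549824 p.2.1) = true := by decide +kernel
theorem hchk327 : cover 9 [0] (hl325) 0 = true := by decide +kernel
theorem hchk329 : subM 646501806116396994763318634741760 647769456716625224164815337947136 = true := by decide +kernel
theorem hchk330 : band (fixL (fun c v => (app2 11 12 4) ((fun x => x) c) v) (fun x => x) RH2 [101, 102, 103, 104, 105, 106, 107, 108] hpt290c) (subM 646501806116396994763318634741760 (insL [101, 102, 103, 104, 105, 106, 107, 108] 0)) = true := by decide +kernel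
theorem hchk336 : band (pieces (fun c v => (app2 11 12 4) ((fun x => x) c) v) (fun x => x) htab334 RH2 647769456716625224164815337947136 [100, 101, 102, 103, 104, 105, 106, 107, 108] hpt290c hl335) (allL hl335 fun p => subW 647769456716625224164815337947136 p.2.1) = true := by decide +kernel
theorem hchk337 : cover 8 [0] (hl335) 0 = true := by decide +kernel
theorem hchk339 : subM 638895902515027618354338415509504 646501806116396994763318634741760 = true := by decide +kernel
theorem hchk340 : band (fixL (fun c v => (app2 11 12 4) ((fun x => x) c) v) (fun x => x) RH2 [103, 104, 105, 106, 107, 108] hpt291c) (subM 638895902515027618354338415509504 (insL [103, 104, 105, 106, 107, 108] 0)) = true := by decide +kernel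
theorem hchk346 : band (pieces (fun c v => (app2 11 12 4) ((fun x => x) c) v) (fun x => x) htab344 RH2 646501806116396994763318634741760 [101, 102, 103, 104, 105, 106, 107, 108] hpt291c hl345) (allL hl345 fun p => subW 646501806116396994763318634741760 p.2.1) = true := by decide +kernel
theorem hchk347 : cover 7 [0] (hl345) 0 = true := by decide +kernel
theorem hchk349 : subM 527342649694943431022628533436416 638895902515027618354338415509504 = true := by decide +kernel
theorem hchk350 : band (fixL (fun c v => (app2 11 12 4) ((fun x => x) c) v) (fun x => x) RH2 [105, 107, 108] hpt292c) (subM 527342649694943431022628533436416 (insL [105, 107, 108] 0)) = true := by decide +kernel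
theorem hchk356 : band (pieces (fun c v => (app2 11 12 4) ((fun x => x) c) v) (fun x => x) htab354 RH2 638895902515027618354338415509504 [103, 104, 105, 106, 107, 108] hpt292c hl355) (allL hl355 fun p => subW 638895902515027618354338415509504 p.2.1) = true := by decide +kernel
theorem hchk357 : cover 6 [0] (hl355) 0 = true := by decide +kernel
theorem hchk359 : subM 486777830487640090174734030864384 527342649694943431022628533436416 = true := by decide +kernel
theorem hchk360 : band (fixL (fun c v => (app2 11 12 4) ((fun x => x) c) v) (fun x => x) RH2 [107, 108] hpt293c) (subM 486777830487640090174734030864384 (insL [107, 108] 0)) = true := by decide +kernel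
theorem hchk366 : band (pieces (fun c v => (app2 11 12 4) ((fun x => x) c) v) (fun x => x) htab364 RH2 527342649694943431022628533436416 [105, 107, 108] hpt293c hl365) (allL hl365 fun p => subW 527342649694943431022628533436416 p.2.1) = true := by decide +kernel
theorem hchk367 : cover 5 [0] (hl365) 0 = true := by decide +kernel
theorem hchk369 : subM 324518553658426726783156020576256 486777830487640090174734030864384 = true := by decide +kernel
theorem hchk370 : band (fixL (fun c v => (app2 11 12 4) ((fun x => x) c) v) (fun x => x) RH2 [108] hpt294c) (subM 324518553658426726783156020576256 (insL [108] 0)) = true := by decide +kernel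
theorem hchk376 : band (pieces (fun c v => (app2 11 12 4) ((fun x => x) c) v) (fun x => x) htab374 RH2 486777830487640090174734030864384 [107, 108] hpt294c hl375) (allL hl375 fun p => subW 486777830487640090174734030864384 p.2.1) = true := by decide +kernel
theorem hchk377 : cover 4 [0] (hl375) 0 = true := by decide +kernel
theorem hchk379 : subM 0 324518553658426726783156020576256 = true := by decide +kernel
theorem hchk380 : band (fixL (fun c v => (app2 11 12 4) ((fun x => x) c) v) (fun x => x) RH2 [] hpt295c) (subM 0 (insL [] 0)) = true := by decide +kernel
theorem hchk386 : band (pieces (fun c v => (app2 11 12 4) ((fun x => x) c) v) (fun x => x) htab384 RH2 324518553658426726783156020576256 [108] hpt295c hl385) (allL hl385 fun p => subW 324518553658426726783156020576256 p.2.1) = true := by decide +kernel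
theorem hchk387 : cover 3 [0] (hl385) 0 = true := by decide +kernel
end

end CfsgLY
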