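/-
Lyons: permutation-level facts in `A₁₁`.
-/
import Cfsg.Agent.LY.L1a

set_option autoImplicit false

namespace CfsgLY.L1

open Subgroup Equiv

/-- the images of the letters -/
def pE : Perm (Fin 11) := swap 0 2 * swap 1 3 * swap 4 6 * swap 5 7
def pU : Perm (Fin 11) := swap 0 7 * swap 1 6 * swap 2 5 * swap 3 4
def pU' : Perm (Fin 11) := swap 0 5 * swap 1 6 * swap 2 7 * swap 3 4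
def pA : Perm (Fin 11) := swap 0 1 * swap 2 3 * swap 4 5 * swap 6 7
def pC : Perm (Fin 11) := swap 0 1 * swap 2 3 * swap 4 7 * swap 5 6
def pX : Perm (Fin 11) := swap 8 10 * swap 8 9

/-- the elements of a group `2³` -/
def el8 {Γ : Type*} [Group Γ] (e u a : Γ) : List Γ := [1, e, u, a, e * u, e * a, u * a, e * u * a]

def ap (l : List ℕ) (i : ℕ) : ℕ := l.getD i 0
def ml (l l' : List ℕ) : List ℕ := (List.range 11).map fun i => ap l (ap l' i)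
def ls (g : Perm (Fin 11)) : List ℕ := (List.range 11).map fun i => (g (Fin.ofNat 11 i)).1
def mv (l : List ℕ) : ℕ := ∑ i ∈ Finset.range 11, if ap l i = i then 0 else 1

theorem ap_ls (g : Perm (Fin 11)) (i : Fin 11) : ap (ls g) i = g i := by
  simp [ap, ls, List.getD_eq_getElem?_getD]

theorem ls_mul (g k : Perm (Fin 11)) : ls (g * k) = ml (ls g) (ls k) := by
  refine List.map_congr_left fun i hi => ?_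
  have := ap_ls k ⟨i, List.mem_range.1 hi⟩
  rw [this, ap_ls, Perm.mul_apply]
  congr 3
  exact Fin.ext (Nat.mod_eq_of_lt (List.mem_range.1 hi))

theorem ls_inj {g k : Perm (Fin 11)} (h : ls g = ls k) : g = k :=
  Equiv.ext fun i => Fin.ext (by rw [← ap_ls, h, ap_ls])

theorem mv_ls (g : Perm (Fin 11)) : mv (ls g) = g.support.card := by
  rw [mv, ← Fin.sum_univ_eq_sum_range (fun i => if ap (ls g) i = i then 0 else 1) 11,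
    Perm.support, Finset.card_filter]
  refine Finset.sum_congr rfl fun i _ => ?_
  rw [ap_ls]
  by_cases h : g i = i <;> simp [h, Fin.ext_iff.not.1]

def lE : List ℕ := [2, 3, 0, 1, 6, 7, 4, 5, 8, 9, 10]
def lU : List ℕ := [7, 6, 5, 4, 3, 2, 1, 0, 8, 9, 10]
def lA : List ℕ := [1, 0, 3, 2, 5, 4, 7, 6, 8, 9, 10]

def mk (a b c d i j k : ℕ) : List ℕ := [a, b, ap lE a, ap lE b, c, d, ap lE c, ap lE d, i, j, k]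

def LI : List (List ℕ) := [[0, 3, 2, 1, 5, 4, 7, 6, 8, 10, 9],
  [0, 3, 2, 1, 5, 4, 7, 6, 9, 8, 10],
  [0, 3, 2, 1, 5, 4, 7, 6, 10, 9, 8],
  [0, 3, 2, 1, 7, 6, 5, 4, 8, 10, 9],
  [0, 3, 2, 1, 7, 6, 5, 4, 9, 8, 10],
  [0, 3, 2, 1, 7, 6, 5, 4, 10, 9, 8],
  [2, 1, 0, 3, 5, 4, 7, 6, 8, 10, 9],
  [2, 1, 0, 3, 5, 4, 7, 6, 9, 8, 10],
  [2, 1, 0, 3, 5, 4, 7, 6, 10, 9, 8],
  [2, 1, 0, 3, 7, 6, 5, 4, 8, 10, 9],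
  [2, 1, 0, 3, 7, 6, 5, 4, 9, 8, 10],
  [2, 1, 0, 3, 7, 6, 5, 4, 10, 9, 8],
  [0, 4, 2, 6, 1, 7, 3, 5, 8, 10, 9],
  [0, 4, 2, 6, 1, 7, 3, 5, 9, 8, 10],
  [0, 4, 2, 6, 1, 7, 3, 5, 10, 9, 8],
  [0, 6, 2, 4, 3, 7, 1, 5, 8, 10, 9],
  [0, 6, 2, 4, 3, 7, 1, 5, 9, 8, 10],
  [0, 6, 2, 4, 3, 7, 1, 5, 10, 9, 8],
  [2, 4, 0, 6, 1, 5, 3, 7, 8, 10, 9],
  [2, 4, 0, 6, 1, 5, 3, 7, 9, 8, 10],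
  [2, 4, 0, 6, 1, 5, 3, 7, 10, 9, 8],
  [2, 6, 0, 4, 3, 5, 1, 7, 8, 10, 9],
  [2, 6, 0, 4, 3, 5, 1, 7, 9, 8, 10],
  [2, 6, 0, 4, 3, 5, 1, 7, 10, 9, 8],
  [0, 5, 2, 7, 6, 1, 4, 3, 8, 10, 9],
  [0, 5, 2, 7, 6, 1, 4, 3, 9, 8, 10],
  [0, 5, 2, 7, 6, 1, 4, 3, 10, 9, 8],
  [0, 7, 2, 5, 6, 3, 4, 1, 8, 10, 9],
  [0, 7, 2, 5, 6, 3, 4, 1, 9, 8, 10],
  [0, 7, 2, 5, 6, 3, 4, 1, 10, 9, 8],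
  [2, 5, 0, 7, 4, 1, 6, 3, 8, 10, 9],
  [2, 5, 0, 7, 4, 1, 6, 3, 9, 8, 10],
  [2, 5, 0, 7, 4, 1, 6, 3, 10, 9, 8],
  [2, 7, 0, 5, 4, 3, 6, 1, 8, 10, 9],
  [2, 7, 0, 5, 4, 3, 6, 1, 9, 8, 10],
  [2, 7, 0, 5, 4, 3, 6, 1, 10, 9, 8],
  [1, 0, 3, 2, 4, 7, 6, 5, 8, 10, 9],
  [1, 0, 3, 2, 4, 7, 6, 5, 9, 8, 10],
  [1, 0, 3, 2, 4, 7, 6, 5, 10, 9, 8],
  [1, 0, 3, 2, 6, 5, 4, 7, 8, 10, 9],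
  [1, 0, 3, 2, 6, 5, 4, 7, 9, 8, 10],
  [1, 0, 3, 2, 6, 5, 4, 7, 10, 9, 8],
  [3, 2, 1, 0, 4, 7, 6, 5, 8, 10, 9],
  [3, 2, 1, 0, 4, 7, 6, 5, 9, 8, 10],
  [3, 2, 1, 0, 4, 7, 6, 5, 10, 9, 8],
  [3, 2, 1, 0, 6, 5, 4, 7, 8, 10, 9],
  [3, 2, 1, 0, 6, 5, 4, 7, 9, 8, 10],
  [3, 2, 1, 0, 6, 5, 4, 7, 10, 9, 8],
  [1, 0, 3, 2, 5, 4, 7, 6, 8, 9, 10],
  [1, 0, 3, 2, 7, 6, 5, 4, 8, 9, 10],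
  [3, 2, 1, 0, 5, 4, 7, 6, 8, 9, 10],
  [3, 2, 1, 0, 7, 6, 5, 4, 8, 9, 10],
  [4, 1, 6, 3, 0, 7, 2, 5, 8, 10, 9],
  [4, 1, 6, 3, 0, 7, 2, 5, 9, 8, 10],
  [4, 1, 6, 3, 0, 7, 2, 5, 10, 9, 8],
  [4, 3, 6, 1, 0, 5, 2, 7, 8, 10, 9],
  [4, 3, 6, 1, 0, 5, 2, 7, 9, 8, 10],
  [4, 3, 6, 1, 0, 5, 2, 7, 10, 9, 8],
  [6, 1, 4, 3, 2, 7, 0, 5, 8, 10, 9],
  [6, 1, 4, 3, 2, 7, 0, 5, 9, 8, 10],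
  [6, 1, 4, 3, 2, 7, 0, 5, 10, 9, 8],
  [6, 3, 4, 1, 2, 5, 0, 7, 8, 10, 9],
  [6, 3, 4, 1, 2, 5, 0, 7, 9, 8, 10],
  [6, 3, 4, 1, 2, 5, 0, 7, 10, 9, 8],
  [4, 5, 6, 7, 0, 1, 2, 3, 8, 9, 10],
  [4, 7, 6, 5, 0, 3, 2, 1, 8, 9, 10],
  [6, 5, 4, 7, 2, 1, 0, 3, 8, 9, 10],
  [6, 7, 4, 5, 2, 3, 0, 1, 8, 9, 10],
  [5, 1, 7, 3, 6, 0, 4, 2, 8, 10, 9],
  [5, 1, 7, 3, 6, 0, 4, 2, 9, 8, 10],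
  [5, 1, 7, 3, 6, 0, 4, 2, 10, 9, 8],
  [5, 3, 7, 1, 4, 0, 6, 2, 8, 10, 9],
  [5, 3, 7, 1, 4, 0, 6, 2, 9, 8, 10],
  [5, 3, 7, 1, 4, 0, 6, 2, 10, 9, 8],
  [7, 1, 5, 3, 6, 2, 4, 0, 8, 10, 9],
  [7, 1, 5, 3, 6, 2, 4, 0, 9, 8, 10],
  [7, 1, 5, 3, 6, 2, 4, 0, 10, 9, 8],
  [7, 3, 5, 1, 4, 2, 6, 0, 8, 10, 9],
  [7, 3, 5, 1, 4, 2, 6, 0, 9, 8, 10],
  [7, 3, 5, 1, 4, 2, 6, 0, 10, 9, 8],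
  [5, 4, 7, 6, 1, 0, 3, 2, 8, 9, 10],
  [5, 6, 7, 4, 3, 0, 1, 2, 8, 9, 10],
  [7, 4, 5, 6, 1, 2, 3, 0, 8, 9, 10],
  [7, 6, 5, 4, 3, 2, 1, 0, 8, 9, 10]]

def LE : List (List ℕ) := [[0, 1, 2, 3, 4, 5, 6, 7, 8, 9, 10],
  [2, 3, 0, 1, 6, 7, 4, 5, 8, 9, 10],
  [7, 6, 5, 4, 3, 2, 1, 0, 8, 9, 10],
  [1, 0, 3, 2, 5, 4, 7, 6, 8, 9, 10],
  [5, 4, 7, 6, 1, 0, 3, 2, 8, 9, 10],
  [3, 2, 1, 0, 7, 6, 5, 4, 8, 9, 10],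
  [6, 7, 4, 5, 2, 3, 0, 1, 8, 9, 10],
  [4, 5, 6, 7, 0, 1, 2, 3, 8, 9, 10]]

def LE' : List (List ℕ) := [[0, 1, 2, 3, 4, 5, 6, 7, 8, 9, 10],
  [2, 3, 0, 1, 6, 7, 4, 5, 8, 9, 10],
  [5, 6, 7, 4, 3, 0, 1, 2, 8, 9, 10],
  [1, 0, 3, 2, 7, 6, 5, 4, 8, 9, 10],
  [7, 4, 5, 6, 1, 2, 3, 0, 8, 9, 10],
  [3, 2, 1, 0, 5, 4, 7, 6, 8, 9, 10],
  [6, 5, 4, 7, 2, 1, 0, 3, 8, 9, 10],
  [4, 7, 6, 5, 0, 3, 2, 1, 8, 9, 10]]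

def LX : List (List ℕ) := [[0, 1, 2, 3, 4, 5, 6, 7, 8, 9, 10],
  [0, 1, 2, 3, 4, 5, 6, 7, 8, 10, 9],
  [0, 1, 2, 3, 4, 5, 6, 7, 9, 10, 8],
  [0, 1, 2, 3, 4, 5, 6, 7, 9, 8, 10],
  [0, 1, 2, 3, 4, 5, 6, 7, 10, 8, 9],
  [0, 1, 2, 3, 4, 5, 6, 7, 10, 9, 8],
  [2, 3, 0, 1, 6, 7, 4, 5, 8, 9, 10],
  [2, 3, 0, 1, 6, 7, 4, 5, 8, 10, 9],
  [2, 3, 0, 1, 6, 7, 4, 5, 9, 10, 8],
  [2, 3, 0, 1, 6, 7, 4, 5, 9, 8, 10],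
  [2, 3, 0, 1, 6, 7, 4, 5, 10, 8, 9],
  [2, 3, 0, 1, 6, 7, 4, 5, 10, 9, 8],
  [7, 6, 5, 4, 3, 2, 1, 0, 8, 9, 10],
  [7, 6, 5, 4, 3, 2, 1, 0, 8, 10, 9],
  [7, 6, 5, 4, 3, 2, 1, 0, 9, 10, 8],
  [7, 6, 5, 4, 3, 2, 1, 0, 9, 8, 10],
  [7, 6, 5, 4, 3, 2, 1, 0, 10, 8, 9],
  [7, 6, 5, 4, 3, 2, 1, 0, 10, 9, 8],
  [1, 0, 3, 2, 5, 4, 7, 6, 8, 9, 10],
  [1, 0, 3, 2, 5, 4, 7, 6, 8, 10, 9],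
  [1, 0, 3, 2, 5, 4, 7, 6, 9, 10, 8],
  [1, 0, 3, 2, 5, 4, 7, 6, 9, 8, 10],
  [1, 0, 3, 2, 5, 4, 7, 6, 10, 8, 9],
  [1, 0, 3, 2, 5, 4, 7, 6, 10, 9, 8],
  [5, 4, 7, 6, 1, 0, 3, 2, 8, 9, 10],
  [5, 4, 7, 6, 1, 0, 3, 2, 8, 10, 9],
  [5, 4, 7, 6, 1, 0, 3, 2, 9, 10, 8],
  [5, 4, 7, 6, 1, 0, 3, 2, 9, 8, 10],
  [5, 4, 7, 6, 1, 0, 3, 2, 10, 8, 9],
  [5, 4, 7, 6, 1, 0, 3, 2, 10, 9, 8],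
  [3, 2, 1, 0, 7, 6, 5, 4, 8, 9, 10],
  [3, 2, 1, 0, 7, 6, 5, 4, 8, 10, 9],
  [3, 2, 1, 0, 7, 6, 5, 4, 9, 10, 8],
  [3, 2, 1, 0, 7, 6, 5, 4, 9, 8, 10],
  [3, 2, 1, 0, 7, 6, 5, 4, 10, 8, 9],
  [3, 2, 1, 0, 7, 6, 5, 4, 10, 9, 8],
  [6, 7, 4, 5, 2, 3, 0, 1, 8, 9, 10],
  [6, 7, 4, 5, 2, 3, 0, 1, 8, 10, 9],
  [6, 7, 4, 5, 2, 3, 0, 1, 9, 10, 8],
  [6, 7, 4, 5, 2, 3, 0, 1, 9, 8, 10],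
  [6, 7, 4, 5, 2, 3, 0, 1, 10, 8, 9],
  [6, 7, 4, 5, 2, 3, 0, 1, 10, 9, 8],
  [4, 5, 6, 7, 0, 1, 2, 3, 8, 9, 10],
  [4, 5, 6, 7, 0, 1, 2, 3, 8, 10, 9],
  [4, 5, 6, 7, 0, 1, 2, 3, 9, 10, 8],
  [4, 5, 6, 7, 0, 1, 2, 3, 9, 8, 10],
  [4, 5, 6, 7, 0, 1, 2, 3, 10, 8, 9],
  [4, 5, 6, 7, 0, 1, 2, 3, 10, 9, 8]]

theorem ls_pE : ls pE = lE := by decide +kernel
theorem ls_pU : ls pU = lU := by decide +kernel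
theorem ls_pA : ls pA = lA := by decide +kernel
theorem LE_eq : (el8 pE pU pA).map ls = LE := by decide +kernel
theorem LE'_eq : (el8 pE pU' pC).map ls = LE' := by decide +kernel
theorem LX_eq : ∀ l ∈ LX, ∃ v ∈ el8 pE pU pA, ∃ j ∈ [0, 1, 2],
    l = ls (v * pX ^ j) ∨ l = ls (v * pX ^ j * swap 9 10) := by decide +kernel

/-- the leaf test -/
def leaf (l : List ℕ) : Bool :=
  (!(ml l lU == ml lU l && ml l lA == ml lA l) || LX.contains l) &&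
  (!(ml l l == List.range 11 && mv l == 8 && mv (ml l lE) == 8) || LI.contains l)

/-- a new value -/
def nw (x : ℕ) (l : List ℕ) : Bool := !l.contains x

theorem enum : (List.range 8).all (fun a => (List.range 8).all fun b => !nw b [a, ap lE a] ||
    (List.range 8).all fun c => !nw c [a, ap lE a, b, ap lE b] ||
    (List.range 8).all fun d => !nw d [a, ap lE a, b, ap lE b, c, ap lE c] ||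
    [8, 9, 10].all fun i => [8, 9, 10].all fun j => !nw j [i] || [8, 9, 10].all fun k =>
      !nw k [i, j] || leaf (mk a b c d i j k)) = true := by decide +kernel

theorem pairs : LI.all (fun l => LI.all fun l' => !(ml l l' == ml l' l) || !(mv (ml l l') == 8) ||
    !(mv (ml (ml l l') lE) == 8) ||
    LE.contains l && LE.contains l' || LE'.contains l && LE'.contains l') = true := by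
  decide +kernel

end CfsgLY.L1
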