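import Cfsg.Agent.LY.M5K0
import Cfsg.Agent.LY.M5K1
import Cfsg.Agent.LY.M5K2

set_option autoImplicit false
set_option maxRecDepth 100000
set_option linter.all false
set_option Elab.async false

namespace CfsgLY

open CfsgH5 CfsgH6 Subgroup MulAction Pointwise

noncomputable section

theorem npt1e : ∃ x, MP.Rep npt1c x := via_rep _ _ (act2_rep (n := 275) (d := 9) (by decide) (by decide) (c := 0x18000d8c220000a020446040082010104040005000001800000001000410400102200) (by decide +kernel))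
noncomputable def npt1 := Classical.choose npt1e
theorem npt1r : MP.Rep npt1c npt1 := Classical.choose_spec npt1e
theorem npt2e : ∃ x, MP.Rep npt2c x := via_rep _ _ (act2_rep (n := 275) (d := 9) (by decide) (by decide) (c := 0x5eb4fd76d4330f1446beab0c11fdecb91ce375bc8fbbcbde5c0994164d8399f767c45) (by decide +kernel))
noncomputable def npt2 := Classical.choose npt2e
theorem npt2r : MP.Rep npt2c npt2 := Classical.choose_spec npt2e
theorem nK6 : CM.Mem RM K6 2251799813749888 := GC.Mem.gen (memM.sub (by decide +kernel))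
theorem nK0 : CM.Mem RM K0 64640 := GC.Mem.gen (memM.sub (by decide +kernel))
abbrev T9 : Subgroup M6 := CM.gen RM 22869841860362240
theorem nT9 : CM.Mem RM T9 22869841860362240 := GC.Mem.gen (memM.sub (by decide +kernel))
theorem ncov29 : Cov K0 (CM.wds RM nQ1) npt1 22275 := Act.cov_of_seen (Act.pieces_sound nK0 nK6.top npt1r nchk27) nchk28
theorem ncov56 : Cov T9 (CM.wds RM nQ2) npt1 22275 := Act.cov_of_seen (Act.pieces_sound nT9 nK6.top npt1r nchk54) nchk55
theorem nfx58 : CM.gen RM 64640 ≤ stabilizer _ npt1 := Act.fix_sound nK0.top npt1r nchk57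
theorem nK0_le : K0 ≤ K6 := (nK6.sub (M' := 64640) (by decide +kernel)).gen_le

theorem nK6' : CM.Mem RM K6 (insP nLT 3933459902889726) := by
  have h0 := (slpL_sound (nK6.sub (M' := 64512) (by decide +kernel)) slpM0).1
  exact (slpL_sound (h0.lor' nK6 (M'' := 3933459902889726) (by decide +kernel)) nchk63).1

theorem nT9_le : T9 ≤ K6 := (nK6'.sub (M' := 22869841860362240) (by decide +kernel)).gen_le

theorem n_y : mm 19 ∈ K6 := (nK6'.get (i := 19) (by decide +kernel)).el_mem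
theorem n_z : mm 20 ∈ K6 := (nK6'.get (i := 20) (by decide +kernel)).el_mem
theorem n_x : mm 7 ∈ K6 := (nK6'.get (i := 7) (by decide +kernel)).el_mem
theorem n_t : mm 9 ∈ K6 := (nK6'.get (i := 9) (by decide +kernel)).el_mem
theorem n_v : mm 52 ∈ K6 := (nK6'.get (i := 52) (by decide +kernel)).el_mem

/-- `K0` centralises `t` -/
theorem nK0_t : ∀ k ∈ K0, k * mm 9 = mm 9 * k := fun k hk =>
  M5.cl_comm (m := fun i => CM.el (RM i)) (M5.eqs memM nchk67) k
    (M5.gen_le_cl [7, 10, 11, 12, 13, 14, 15] (by decide +kernel) hk)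

/-- `x` is central in `K6` -/
theorem nK6_x : ∀ k ∈ K6, k * mm 7 = mm 7 * k := fun k hk =>
  M5.cl_comm (m := fun i => CM.el (RM i)) (M5.eqs memM nchk71) k
    (M5.gen_le_cl [7, 10, 11, 12, 13, 14, 15, 51] (by decide +kernel) hk)

theorem nT9_cl : T9 ≤ M5.cl (fun i => CM.el (RM i)) [19, 21, 46, 48, 52, 54] :=
  M5.gen_le_cl [19, 21, 46, 48, 52, 54] (by decide +kernel)

theorem n_id : mm 52 ^ 3 = 1 ∧ mm 54 ^ 3 = 1 ∧ Commute (mm 52) (mm 54) ∧
    (mm 45)⁻¹ = mw [45, 45, 9] ∧ mm 9 * mm 9 = 1 ∧ mm 53 = mm 52 ^ 2 :=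
  M5.ids (m := fun i => CM.el (RM i)) (M5.eqs memM nchk68)

variable [Finite M6]

/-- the centraliser of `t` in `K6` -/
theorem CK6 (hub : Nat.card K6 ≤ 22275 * Nat.card K0) :
    ∀ k ∈ K6, k * mm 9 = mm 9 * k → k ∈ K0 :=
  M5.ck_of (ncov29.dec nK0_le (GC.wds_sub nK6 nchk61) nK0_le nfx58 hub) nK0_t
    (M5.nc_sound nK6 (memM.get (i := 9) (by decide +kernel)) npt2r nchk61 nchk59)

theorem nT9_Y : M5.cl (fun i => CM.el (RM i)) [19, 21, 46, 48, 52, 54] ≤
    normalizer (M5.cl (fun i => CM.el (RM i)) [7, 19, 20] : Set M6) :=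
  M5.cl_norm (M5.eqs memM nchk64) (by decide +kernel)

theorem nT9_W : M5.cl (fun i => CM.el (RM i)) [19, 21, 46, 48, 52, 54] ≤
    normalizer (M5.cl (fun i => CM.el (RM i)) [52, 54] : Set M6) :=
  M5.cl_norm (M5.eqs memM nchk65) (by decide +kernel)

/-- the conjugates of `t` centralising `y` and `z` -/
theorem nine9 (hub : Nat.card K6 ≤ 22275 * Nat.card K0) : ∀ k ∈ K6,
    Commute (k * mm 9 * k⁻¹) (mm 19) → Commute (k * mm 9 * k⁻¹) (mm 20) →
    ∃ i < 3, ∃ j < 3, k * mm 9 * k⁻¹ * mm 9 = mm 52 ^ i * mm 54 ^ j := fun k hk hy hz =>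
  M5.cl_two (m := fun i => CM.el (RM i)) n_id.1 n_id.2.1 n_id.2.2.1
    (M5.nine_of (m := fun i => CM.el (RM i))
      (ncov56.dec nT9_le (GC.wds_sub nK6 nchk62) nK0_le nfx58 hub) nT9_cl nK0_t nfx58 (CK6 hub)
      nK6_x n_x n_t n_y n_z nT9_Y
      (M5.mv_sound nK6 (memM.get (i := 19) (by decide +kernel)) (memM.get (i := 20) (by decide +kernel))
        npt1r nchk62 nchk60)
      (M5.cl_t n_id.2.2.2.2.1 nT9_W (M5.eqs memM nchk66) (by decide +kernel)) k hk hy hz)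

/-- the field `nine` of `L2.MF` (`ca = 2`, `cb = 1`, `gc' = 45`, `vs = 53`) -/
theorem nine6 (hub : Nat.card K6 ≤ 22275 * Nat.card K0) : ∀ k ∈ K6,
    Commute (k * mm 9 * k⁻¹) (mm 19) → Commute (k * mm 9 * k⁻¹) (mm 20) →
    ∀ r, r = k * mm 9 * k⁻¹ * mm 9 →
      r * (mm 45 * r * (mm 45)⁻¹) * r⁻¹ * (mm 45 * r * (mm 45)⁻¹)⁻¹ = mm 7 ^ 2 * mm 19 ^ 1 →
      r = mm 53 ∨ r = (mm 53)⁻¹ := fun k hk hy hz r hr hc =>
  M5.pick (m := fun i => CM.el (RM i)) n_id.1 n_id.2.2.2.1 n_id.2.2.2.2.2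
    (B := [[], [54], [54, 54], [52, 54]] ++ [[52, 54, 54], [52, 52, 54], [52, 52, 54, 54]]) (forall_app (M5.nes memM nchk69) (M5.nes memM nchk70)) (by decide)
    (hr ▸ nine9 hub k hk hy hz) hc

end

end CfsgLY
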