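/-
Lyons group: tables and relators (generated).
-/
import Cfsg.Agent.LY.TD0
import Cfsg.Agent.LY.TD1
import Cfsg.Agent.LY.TD2
import Cfsg.Agent.LY.TD3
import Cfsg.Agent.LY.TD4

set_option autoImplicit false
set_option maxRecDepth 100000
set_option linter.all false
set_option Elab.async false

namespace CfsgLY.TT

open CfsgH5 CfsgH5.KT

noncomputable section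

def T : Tr := (.node 2005 (.node 1002 T0 T1) (.node 3008 T2 T3))
def R : ℕ → ℕ := row T 256 0xffffffffffffffffffffffffffffffffffffffffffffffffffffffffffffffffffffffff
def EP (p : ℕ) : ℕ := row U0 40 0xffffffffff (Nat.sub p 22275)
def TB : List (List (List ℕ)) := [[], [[1], [7, 1, 2, 1, 2, 7], [5, 1, 5], [3, 1, 6, 1, 6, 1, 3], [6, 1, 3, 1, 3, 1, 6], [3, 1, 3, 2, 1, 3, 1, 3, 2], [4, 2, 1, 4, 2, 1, 4, 2], [3, 7, 2, 3, 2, 3, 1, 3, 2, 3, 2, 1, 7, 1, 3], [2, 1, 2, 7, 1, 7], [2, 7, 1, 7, 1, 2], [5, 2, 1, 5, 2, 1, 5, 2], [5, 4, 1, 5, 4, 1, 5, 4], [7, 2, 1, 2, 1, 7], [3, 1, 7, 1, 2, 3, 2, 3, 1, 3, 2, 3, 2, 7, 3], [4, 1, 4, 1, 4], [3, 2, 1, 3, 1, 3, 2, 1, 3], [2, 1, 2, 1, 2, 1, 2], [3, 1, 4, 3, 4,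 3, 3], [3, 5, 1, 3, 1, 3, 5, 1, 3], [2, 4, 1, 2, 4, 1, 2, 4], [2, 1, 7, 1, 7, 2], [3, 1, 3, 3, 4, 3, 4], [3, 1, 3, 1, 6, 1, 6], [7, 1, 7, 2, 1, 2], [4, 3, 4, 3, 3, 1, 3], [6, 1, 6, 1, 3, 1, 3], [3, 1, 3, 6, 1, 3, 1, 3, 6], [3, 2, 3, 2, 1, 7, 1, 3, 1, 3, 7, 2, 3, 2, 3], [3, 3, 4, 3, 4, 1, 3], [4, 5, 1, 4, 5, 1, 4, 5], [2, 5, 1, 2, 5, 1, 2, 5], [3, 1, 5, 3, 1, 3, 1, 5, 3], [3, 1, 2, 3, 1, 3, 1, 2, 3], [5, 3, 1, 3, 1, 5, 3, 1, 3], [3, 1, 6, 3, 1, 3, 1, 6, 3], [3, 6, 1, 3, 1, 3, 6, 1, 3], [2, 3, 1, 3, 1, 2, 3, 1, 3], [3, 1, 6, 4, 6, 4, 3], [6, 5, 3, 6, 5, 3, 6, 5, 3, 3, 1, 3], [3, 4, 6, 4, 6, 1, 3], [3, 2, 3, 2, 7, 3, 1, 3, 1, 7, 1, 2, 3, 2, 3], [2, 3, 2, 3, 1, 3, 2, 3, 2, 7, 3, 1, 3, 1, 7],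 [3, 1, 3, 4, 6, 4, 6], [3, 1, 3, 5, 1, 3, 1, 3, 5], [7, 1, 2, 3, 2, 3, 1, 3, 2, 3, 2, 7, 3, 1, 3], [7, 1, 3, 1, 3, 7, 2, 3, 2, 3, 1, 3, 2, 3, 2], [3, 1, 3, 7, 2, 3, 2, 3, 1, 3, 2, 3, 2, 1, 7], [6, 4, 6, 4, 3, 1, 3], [6, 3, 1, 3, 1, 6, 3, 1, 3], [3, 1, 6, 5, 3, 6, 5, 3, 6, 5, 3, 3], [3, 1, 3, 3, 5, 6, 3, 5, 6, 3, 5, 6]], [[4, 2, 4], [2], [3, 6, 1, 3, 1, 3, 2, 3, 6, 2, 3, 6], [6, 2, 6], [7, 5, 2, 7, 5], [3, 2, 3, 2, 3, 2, 3], [4, 1, 2, 4, 1, 2, 4, 1], [7, 2, 3, 2, 3, 7, 3, 2, 3], [7, 1, 7, 1, 2, 1], [1, 3, 1, 3, 2, 1, 3, 1, 3], [1, 2, 7, 1, 7, 1], [1, 2, 1, 2, 1, 2, 1], [4, 5, 2, 4, 5, 2, 4, 5], [5, 7, 2, 5, 7], [5, 2, 5, 2, 5], [3, 1, 3, 1, 6, 3, 2, 6, 3, 2, 6, 3], [7, 2, 7, 2, 7], [5, 3,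 2, 5, 3, 2, 5, 3], [5, 4, 2, 5, 4, 2, 5, 4], [6, 3, 2, 6, 3, 2, 3, 1, 3, 1, 6, 3], [3, 6, 2, 3, 6, 2, 3, 6, 1, 3, 1, 3], [1, 4, 2, 1, 4, 2, 1, 4], [6, 5, 2, 6, 5, 2, 6, 5], [5, 1, 2, 5, 1, 2, 5, 1], [1, 5, 2, 1, 5, 2, 1, 5], [7, 3, 7, 3, 3, 2, 3], [3, 2, 7, 3, 7, 3, 3], [1, 7, 1, 7, 2, 1], [3, 1, 3, 1, 2, 3, 1, 3, 1], [3, 7, 3, 2, 3, 2, 7, 2, 3], [3, 2, 7, 2, 3, 2, 3, 7, 3], [5, 6, 2, 5, 6, 2, 5, 6], [3, 2, 3, 3, 7, 3, 7], [3, 3, 7, 3, 7, 2, 3], [3, 6, 2, 3, 6, 1, 3, 1, 3, 2, 3, 6], [3, 5, 2, 3, 5, 2, 3, 5], [1, 2, 1, 7, 1, 7], [6, 3, 2, 3, 1, 3, 1, 6, 3, 2, 6, 3], [3, 1, 3, 2, 3, 2, 7, 3, 1, 3, 1, 7, 1, 2, 3], [3, 2, 1, 7, 1, 3, 1, 3, 7, 2, 3, 2, 3, 1, 3], [3, 2, 3, 7, 3, 2, 3, 2, 7]],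 [[4, 1, 3, 1, 3, 3, 4], [3], [7, 3, 3, 2, 3, 2, 7], [5, 3, 5], [2, 3, 2, 3, 2, 3, 2], [1, 3, 3, 4, 3, 4, 1], [2, 7, 3, 7, 3, 3, 2], [1, 3, 5, 1, 3, 1, 3, 5, 1], [5, 2, 3, 5, 2, 3, 5, 2], [2, 3, 2, 7, 2, 3, 2, 3, 7], [6, 3, 6, 3, 6], [1, 6, 1, 6, 1, 3, 1], [2, 3, 3, 7, 3, 7, 2], [2, 5, 3, 2, 5, 3, 2, 5], [1, 3, 7, 2, 3, 2, 3, 1, 3, 2, 3, 2, 1, 7, 1], [1, 3, 1, 6, 1, 6, 1], [1, 3, 2, 1, 3, 1, 3, 2, 1], [1, 2, 3, 1, 3, 1, 2, 3, 1], [2, 1, 3, 1, 3, 2, 1, 3, 1], [2, 7, 2, 3, 2, 3, 7, 3, 2], [7, 3, 2, 3, 2, 7, 2, 3, 2], [6, 2, 3, 6, 2, 3, 6, 1, 3, 1, 3, 2], [1, 3, 1, 2, 3, 1, 3, 1, 2], [1, 3, 1, 5, 3, 1, 3, 1, 5], [7, 2, 3, 2, 3, 3, 7], [1, 7, 1, 2, 3, 2, 3, 1, 3, 2, 3, 2, 7, 3, 1], [5, 6, 3,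 5, 6, 1, 3, 1, 3, 3, 5, 6], [2, 1, 7, 1, 3, 1, 3, 7, 2, 3, 2, 3, 1, 3, 2], [2, 3, 1, 3, 2, 3, 2, 7, 3, 1, 3, 1, 7, 1, 2], [4, 3, 3, 1, 3, 1, 4], [7, 2, 3, 2, 3, 1, 3, 2, 3, 2, 1, 7, 1, 3, 1], [1, 6, 3, 1, 3, 1, 6, 3, 1], [1, 3, 6, 1, 3, 1, 3, 6, 1], [1, 4, 3, 4, 3, 3, 1], [2, 3, 7, 3, 2, 3, 2, 7, 2], [1, 3, 1, 6, 4, 6, 4], [5, 1, 3, 1, 3, 5, 1, 3, 1], [2, 6, 3, 2, 6, 3, 2, 3, 1, 3, 1, 6], [4, 6, 4, 6, 1, 3, 1], [6, 1, 3, 1, 3, 2, 3, 6, 2, 3, 6, 2], [1, 3, 1, 6, 3, 1, 3, 1, 6], [6, 1, 3, 1, 3, 6, 1, 3, 1], [1, 3, 4, 6, 4, 6, 1], [1, 6, 4, 6, 4, 3, 1], [6, 5, 3, 6, 5, 3, 3, 1, 3, 1, 6, 5], [1, 5, 3, 1, 3, 1, 5, 3, 1], [2, 3, 2, 1, 7, 1, 3, 1, 3, 7, 2, 3, 2, 3, 1], [6, 2, 3, 6, 1, 3, 1, 3,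 2, 3, 6, 2], [5, 6, 1, 3, 1, 3, 3, 5, 6, 3, 5, 6], [2, 6, 3, 2, 3, 1, 3, 1, 6, 3, 2, 6], [2, 3, 1, 3, 1, 6, 3, 2, 6, 3, 2, 6], [6, 5, 3, 3, 1, 3, 1, 6, 5, 3, 6, 5], [1, 3, 2, 3, 2, 1, 7, 1, 3, 1, 3, 7, 2, 3, 2], [1, 3, 2, 3, 6, 2, 3, 6, 2, 3, 6, 1], [2, 3, 2, 7, 3, 1, 3, 1, 7, 1, 2, 3, 2, 3, 1], [3, 1, 3, 1, 6, 5, 3, 6, 5, 3, 6, 5], [1, 3, 1, 6, 3, 2, 6, 3, 2, 6, 3, 2], [3, 7, 3, 7, 2, 3, 2], [1, 3, 1, 7, 1, 2, 3, 2, 3, 1, 3, 2, 3, 2, 7], [3, 4, 3, 4, 1, 3, 1], [3, 2, 3, 2, 7, 3, 7], [1, 3, 2, 3, 2, 7, 3, 1, 3, 1, 7, 1, 2, 3, 2], [3, 1, 3, 1, 4, 3, 4]], [[4], [6, 1, 3, 1, 3, 4, 6], [3, 4, 1, 3, 1, 3, 3], [1, 3, 1, 3, 3, 4, 3], [5, 2, 4, 5, 2, 4, 5, 2], [1, 4, 1, 4, 1], [2, 4, 2], [2, 5,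 4, 2, 5, 4, 2, 5], [5, 4, 5, 4, 5, 4, 5], [6, 4, 3, 1, 3, 1, 6], [6, 4, 6, 1, 3, 1, 3], [2, 1, 4, 2, 1, 4, 2, 1], [1, 2, 4, 1, 2, 4, 1, 2], [1, 5, 4, 1, 5, 4, 1, 5], [5, 1, 4, 5, 1, 4, 5, 1], [3, 3, 1, 3, 1, 4, 3], [5, 7, 5, 4, 5, 7, 5, 4, 5, 7, 5, 4, 5, 7, 5, 4, 5, 7, 5], [3, 1, 3, 1, 6, 4, 6], [3, 4, 3, 3, 1, 3, 1], [7, 4, 5, 4, 7, 4, 5, 4, 7, 4, 5, 4, 7, 4, 5, 4, 7, 4, 5], [5, 4, 7, 4, 5, 4, 7, 4, 5, 4, 7, 4, 5, 4, 7, 4, 5, 4, 7]], [[5], [3, 5, 3], [6, 5, 6, 5, 6, 5, 6], [1, 5, 1], [7, 2, 5, 7, 2], [2, 5, 2, 5, 2], [1, 4, 5, 1, 4, 5, 1, 4], [1, 2, 5, 1, 2, 5, 1, 2], [7, 5, 7, 5, 7], [2, 7, 5, 2, 7], [2, 6, 5, 2, 6, 5, 2, 6], [2, 4, 5, 2, 4, 5, 2, 4], [4, 5, 4, 5, 4, 5, 4], [2, 1, 5, 2,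 1, 5, 2, 1], [4, 1, 5, 4, 1, 5, 4, 1], [3, 2, 5, 3, 2, 5, 3, 2], [1, 3, 1, 3, 5, 1, 3, 1, 3], [4, 2, 5, 4, 2, 5, 4, 2], [3, 1, 3, 1, 5, 3, 1, 3, 1], [6, 2, 5, 6, 2, 5, 6, 2], [4, 7, 4, 5, 4, 7, 4, 5, 4, 7, 4, 5, 4, 7, 4, 5, 4, 7, 4], [6, 7, 6, 5, 6, 7, 6, 5, 6, 7, 6, 5, 6, 7, 6, 5, 6, 7, 6], [2, 3, 5, 2, 3, 5, 2, 3], [3, 6, 5, 3, 3, 1, 3, 1, 6, 5, 3, 6], [6, 3, 5, 6, 3, 5, 6, 1, 3, 1, 3, 3], [3, 6, 5, 3, 6, 5, 3, 3, 1, 3, 1, 6], [4, 5, 7, 5, 4, 5, 7, 5, 4, 5, 7, 5, 4, 5, 7, 5, 4, 5, 7], [6, 3, 5, 6, 1, 3, 1, 3, 3, 5, 6, 3], [6, 1, 3, 1, 3, 3, 5, 6, 3, 5, 6, 3], [7, 5, 4, 5, 7, 5, 4, 5, 7, 5, 4, 5, 7, 5, 4, 5, 7, 5, 4], [3, 3, 1, 3, 1, 6, 5, 3, 6, 5, 3, 6]], [[6], [3, 6, 3, 6, 3], [2, 6,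 2], [5, 6, 5, 6, 5, 6, 5], [1, 3, 1, 3, 1, 6, 1], [3, 5, 6, 1, 3, 1, 3, 3, 5, 6, 3, 5], [4, 3, 1, 3, 1, 6, 4], [4, 6, 1, 3, 1, 3, 4], [2, 5, 6, 2, 5, 6, 2, 5], [2, 3, 6, 1, 3, 1, 3, 2, 3, 6, 2, 3], [5, 2, 6, 5, 2, 6, 5, 2], [1, 6, 1, 3, 1, 3, 1], [7, 6, 7, 6, 7, 6, 7, 6, 7], [1, 3, 1, 3, 4, 6, 4], [4, 6, 4, 3, 1, 3, 1], [1, 3, 1, 3, 6, 1, 3, 1, 3], [3, 1, 3, 1, 6, 3, 1, 3, 1], [3, 2, 6, 3, 2, 3, 1, 3, 1, 6, 3, 2], [2, 3, 6, 2, 3, 6, 1, 3, 1, 3, 2, 3], [3, 5, 6, 3, 5, 6, 1, 3, 1, 3, 3, 5], [5, 3, 6, 5, 3, 3, 1, 3, 1, 6, 5, 3], [5, 6, 7, 6, 5, 6, 7, 6, 5, 6, 7, 6, 5, 6, 7, 6, 5, 6, 7], [7, 6, 5, 6, 7, 6, 5, 6, 7, 6, 5, 6, 7, 6, 5, 6, 7, 6, 5], [1, 3, 1, 3, 3, 5, 6, 3, 5, 6, 3, 5], [5, 3, 3,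 1, 3, 1, 6, 5, 3, 6, 5, 3], [5, 3, 6, 5, 3, 6, 5, 3, 3, 1, 3, 1], [1, 3, 1, 3, 2, 3, 6, 2, 3, 6, 2, 3]], [[7], [2, 5, 7, 2, 5], [2, 1, 2, 1, 7, 1], [3, 7, 3, 3, 2, 3, 2], [2, 7, 2, 7, 2], [3, 3, 2, 3, 2, 7, 3], [1, 2, 1, 2, 7, 1], [5, 7, 5, 7, 5], [6, 7, 6, 7, 6, 7, 6, 7, 6], [5, 2, 7, 5, 2], [2, 3, 2, 3, 3, 7, 3], [3, 7, 2, 3, 2, 3, 3], [3, 2, 3, 2, 7, 2, 3, 2, 3], [1, 7, 1, 2, 1, 2], [2, 3, 2, 3, 7, 3, 2, 3, 2], [1, 7, 2, 1, 2, 1], [1, 2, 3, 2, 3, 1, 3, 2, 3, 2, 7, 3, 1, 3, 1], [1, 3, 1, 3, 7, 2, 3, 2, 3, 1, 3, 2, 3, 2, 1], [5, 4, 5, 7, 5, 4, 5, 7, 5, 4, 5, 7, 5, 4, 5, 7, 5, 4, 5], [6, 5, 6, 7, 6, 5, 6, 7, 6, 5, 6, 7, 6, 5, 6, 7, 6, 5, 6], [4, 5, 4, 7, 4, 5, 4, 7, 4, 5, 4, 7, 4, 5, 4,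 7, 4, 5, 4], [2, 3, 2, 3, 1, 3, 2, 3, 2, 1, 7, 1, 3, 1, 3], [3, 1, 3, 1, 7, 1, 2, 3, 2, 3, 1, 3, 2, 3, 2]]]
def D : List (List ℕ) := [[], [0, 826, 6, 278, 790, 30, 293, 438, 186, 442, 301, 295, 59, 1591, 0, 286, 14, 665, 288, 36, 443, 24, 22, 699, 921, 534, 34, 1334, 280, 38, 44, 289, 287, 545, 291, 290, 543, 667, 1587, 282, 695, 55, 26, 32, 1847, 1974, 182, 923, 547, 1331, 50], [8, 0, 1328, 10, 308, 16, 164, 1214, 570, 542, 314, 142, 46, 53, 2, 1073, 194, 297, 303, 305, 560, 165, 299, 172, 173, 960, 704, 571, 31, 446, 958, 42, 65, 321, 944, 40, 315, 689, 439, 1590, 190], [792, 0, 192, 12, 144, 152, 832, 160, 168, 830, 4, 406, 193, 169, 310, 150, 158, 415, 414, 1086, 574, 688, 159, 161,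 833, 1719, 946, 1718, 311, 153, 566, 419, 162, 793, 318, 539, 416, 177, 410, 1456, 163, 418, 154, 795, 307, 417, 1462, 1072, 1330, 561, 945, 691, 1206, 176, 823, 1075, 1201, 449, 1463, 408, 448, 567, 409], [0, 794, 664, 920, 174, 128, 136, 175, 18, 155, 538, 37, 292, 167, 166, 281, 330, 411, 25, 456, 200], [0, 140, 20, 134, 181, 130, 294, 300, 196, 180, 171, 302, 146, 45, 39, 41, 544, 47, 33, 170, 328, 332, 296, 563, 690, 179, 202, 1074, 1458, 458, 947], [0, 132, 138, 148, 918, 1202, 283, 666, 298, 1200, 43, 662, 198, 922, 27, 546, 35, 433, 816, 818, 435, 204, 460, 1586, 819, 51, 1584], [0, 309, 187, 64, 66, 320, 58, 68, 70, 52, 961, 705, 702, 698, 62, 827, 1975, 54, 74, 76, 72, 694, 1335]]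
theorem ok : okT (relA ++ relP) TB D 7 = true := by decide +kernel
def ck : ℕ → Bool := KW.chk R EP (rtT TB) 22275 256694 7 126 [1, 2, 3, 4, 5, 6, 7]

end

end CfsgLY.TT
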