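import Cfsg.Agent.LY.M0
import Cfsg.Agent.LY.U1

set_option autoImplicit false
set_option maxRecDepth 100000
set_option Elab.async false

namespace CfsgLY

open CfsgH5 CfsgH6

abbrev IV : ℕ := 2658455991569831743537799911601864704
def lr2 : List ℕ := [30]
def pt2_0 : List ℕ × ℕ × List (ℕ × ℕ × ℕ × ℕ × ℕ × List ℕ) := ([61], 9, [(0, 1, 0, 0, 0, [66, 99]), (2, 0, 1, 3, 4, []), (0, 2, 0, 0, 0, [70, 82, 67]), (2, 1, 2, 4, 5, []), (0, 5, 0, 0, 0, [116, 103, 62]), (2, 4, 5, 3, 6, []), (0, 2, 0, 0, 0, [87, 100, 64]), (2, 5, 2, 6, 7, []), (0, 7, 0, 0, 0, [91, 71, 64]), (2, 6, 7, 3, 8, []), (0, 2, 0, 0, 0, [112, 92, 62]), (2, 7, 2, 8, 9, []), (1, 8, 9, 3, 0, [])])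
def pt2_1 : List ℕ × ℕ × List (ℕ × ℕ × ℕ × ℕ × ℕ × List ℕ) := ([63], 16, [(0, 2, 0, 0, 0, [80, 71]), (2, 1, 2, 0, 4, []), (0, 4, 0, 0, 0, [91, 116, 64]), (2, 0, 4, 3, 5, []), (0, 2, 0, 0, 0, [105, 95, 61]), (2, 4, 2, 5, 6, []), (0, 6, 0, 0, 0, [100, 110]), (2, 5, 6, 3, 7, []), (0, 2, 0, 0, 0, [85, 87, 63]), (2, 6, 2, 7, 8, []), (0, 8, 0, 0, 0, [85, 64]), (2, 7, 8, 3, 9, []), (0, 2, 0, 0, 0, [120, 72]), (2, 8, 2, 9, 10, []), (0, 10, 0, 0, 0, [80, 93, 66]), (2, 9, 10, 3, 11, []), (0, 2, 0, 0, 0, [90, 100, 64]), (2, 10, 2, 11, 12, []), (0, 12, 0, 0, 0, [64, 103, 62]), (2, 11, 12, 3, 13, []), (0, 2, 0, 0, 0, [74, 114, 65]), (2, 12, 2, 13, 14, []), (0, 14, 0, 0, 0, [116, 71, 65]), (2, 13, 14, 3, 15, []), (0, 2, 0, 0, 0, [99, 90]), (2, 14, 2, 15, 16, []),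 (1, 15, 16, 3, 0, [])])
def pt2_2 : List ℕ × ℕ × List (ℕ × ℕ × ℕ × ℕ × ℕ × List ℕ) := ([66], 1, [(1, 0, 1, 3, 0, [])])
def pt2_3 : List ℕ × ℕ × List (ℕ × ℕ × ℕ × ℕ × ℕ × List ℕ) := ([67], 7, [(0, 2, 0, 0, 0, [71, 70]), (2, 1, 2, 0, 4, []), (0, 4, 0, 0, 0, [62, 90, 66]), (2, 0, 4, 3, 5, []), (0, 2, 0, 0, 0, [91, 71, 61]), (2, 4, 2, 5, 6, []), (0, 6, 0, 0, 0, [109, 69]), (2, 5, 6, 3, 7, []), (1, 6, 2, 7, 0, [])])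
def pt2_4 : List ℕ × ℕ × List (ℕ × ℕ × ℕ × ℕ × ℕ × List ℕ) := ([68], 4, [(0, 2, 0, 0, 0, [69, 71, 69]), (2, 1, 2, 0, 4, []), (1, 0, 4, 3, 0, [])])
def pt2_5 : List ℕ × ℕ × List (ℕ × ℕ × ℕ × ℕ × ℕ × List ℕ) := ([85], 1, [(1, 0, 1, 3, 0, [])])
def pt2_6 : List ℕ × ℕ × List (ℕ × ℕ × ℕ × ℕ × ℕ × List ℕ) := ([107], 15, [(0, 2, 0, 0, 0, [64, 72]), (2, 1, 2, 0, 4, []), (0, 4, 0, 0, 0, [115, 70]), (2, 0, 4, 3, 5, []), (0, 2, 0, 0, 0, [63, 93, 62]), (2, 4, 2, 5, 6, []), (0, 6, 0, 0, 0, [97]), (2, 5, 6, 3, 7, []), (0, 6, 0, 0, 0, [100, 110, 62]), (1, 6, 8, 2, 0, []), (1, 6, 8, 7, 0, []), (0, 8, 0, 0, 0, [74, 65, 62]), (2, 7, 8, 3, 9, []), (0, 2, 0, 0, 0, [105, 115, 73]), (2, 8, 2, 9, 10, []), (0, 10, 0, 0, 0, [108, 68]), (2, 9, 10, 3, 11, []), (0, 2, 0, 0, 0,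 [80, 70]), (2, 10, 2, 11, 12, []), (0, 12, 0, 0, 0, [113, 84, 65]), (2, 11, 12, 3, 13, []), (0, 2, 0, 0, 0, [108, 93, 63]), (2, 12, 2, 13, 14, []), (0, 14, 0, 0, 0, [68, 66]), (2, 13, 14, 3, 15, []), (1, 14, 2, 15, 0, [])])
def PT2 : List (List ℕ × ℕ × List (ℕ × ℕ × ℕ × ℕ × ℕ × List ℕ)) := [pt2_0, pt2_1, pt2_2, pt2_3, pt2_4, pt2_5, pt2_6]
def lr3 : List ℕ := [31]
def pt3_0 : List ℕ × ℕ × List (ℕ × ℕ × ℕ × ℕ × ℕ × List ℕ) := ([61], 13, [(0, 1, 0, 0, 0, [118, 95]), (2, 0, 1, 3, 4, []), (0, 2, 0, 0, 0, [90, 110, 63]), (2, 1, 2, 4, 5, []), (0, 5, 0, 0, 0, [78, 81, 69]), (2, 4, 5, 3, 6, []), (0, 2, 0, 0, 0, [76, 96, 63]), (2, 5, 2, 6, 7, []), (0, 7, 0, 0, 0, [109, 110]), (2, 6, 7, 3, 8, []), (0, 7, 0, 0, 0, [72, 75, 66]), (1, 7, 9, 2, 0, []), (1, 7, 9, 8,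 0, []), (0, 9, 0, 0, 0, [111, 106]), (2, 8, 9, 3, 10, []), (0, 2, 0, 0, 0, [113, 112, 71]), (2, 9, 2, 10, 11, []), (0, 11, 0, 0, 0, [105, 70, 61]), (2, 10, 11, 3, 12, []), (0, 2, 0, 0, 0, [113, 99, 62]), (2, 11, 2, 12, 13, []), (1, 12, 13, 3, 0, [])])
def pt3_1 : List ℕ × ℕ × List (ℕ × ℕ × ℕ × ℕ × ℕ × List ℕ) := ([63], 12, [(0, 1, 0, 0, 0, [67, 114, 62]), (2, 0, 1, 3, 4, []), (0, 2, 0, 0, 0, [107, 63]), (2, 1, 2, 4, 5, []), (0, 5, 0, 0, 0, [105, 92, 62]), (2, 4, 5, 3, 6, []), (0, 2, 0, 0, 0, [62, 90, 63]), (2, 5, 2, 6, 7, []), (0, 7, 0, 0, 0, [99, 114]), (2, 6, 7, 3, 8, []), (0, 2, 0, 0, 0, [70, 109]), (2, 7, 2, 8, 9, []), (0, 9, 0, 0, 0, [115, 78, 63]), (2, 8, 9, 3, 10, []), (0, 2, 0, 0, 0, [107, 101]), (2, 9, 2, 10, 11, []), (0, 11, 0, 0, 0, [89, 61]),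 (2, 10, 11, 3, 12, []), (1, 11, 2, 12, 0, [])])
def pt3_2 : List ℕ × ℕ × List (ℕ × ℕ × ℕ × ℕ × ℕ × List ℕ) := ([65], 14, [(0, 2, 0, 0, 0, [66, 69]), (2, 1, 2, 0, 4, []), (0, 4, 0, 0, 0, [88, 117, 63]), (2, 0, 4, 3, 5, []), (0, 2, 0, 0, 0, [86, 68]), (2, 4, 2, 5, 6, []), (0, 6, 0, 0, 0, [113, 92, 71]), (2, 5, 6, 3, 7, []), (0, 2, 0, 0, 0, [88, 115, 70]), (2, 6, 2, 7, 8, []), (0, 8, 0, 0, 0, [105, 84, 63]), (2, 7, 8, 3, 9, []), (0, 2, 0, 0, 0, [104, 97]), (2, 8, 2, 9, 10, []), (0, 10, 0, 0, 0, [81, 86, 69]), (2, 9, 10, 3, 11, []), (0, 2, 0, 0, 0, [81, 65, 70]), (2, 10, 2, 11, 12, []), (0, 12, 0, 0, 0, [63, 81]), (2, 11, 12, 3, 13, []), (0, 2, 0, 0, 0, [109, 105, 69]), (2, 12, 2, 13, 14, []), (1, 13, 14, 3, 0, [])])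
def pt3_3 : List ℕ × ℕ × List (ℕ × ℕ × ℕ × ℕ × ℕ × List ℕ) := ([66], 1, [(1, 0, 1, 3, 0, [])])
def pt3_4 : List ℕ × ℕ × List (ℕ × ℕ × ℕ × ℕ × ℕ × List ℕ) := ([67], 5, [(0, 0, 0, 0, 0, [84, 104]), (1, 0, 4, 1, 0, []), (1, 0, 4, 3, 0, []), (0, 2, 0, 0, 0, [100, 95, 63]), (2, 1, 2, 4, 5, []), (1, 4, 5, 3, 0, [])])
def pt3_5 : List ℕ × ℕ × List (ℕ × ℕ × ℕ × ℕ × ℕ × List ℕ) := ([68], 8, [(0, 2, 0, 0, 0, [69, 71, 69]), (2, 1, 2, 0, 4, []), (0, 4, 0, 0, 0, [96, 83, 69]), (2, 0, 4, 3, 5, []), (0, 2, 0, 0, 0, [118, 99, 64]), (2, 4, 2, 5, 6, []), (0, 6, 0, 0, 0, [64, 108, 64]), (2, 5, 6, 3, 7, []), (0, 2, 0, 0, 0, [76, 72, 61]), (2, 6, 2, 7, 8, []), (1, 7, 8, 3, 0, [])])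
def pt3_6 : List ℕ × ℕ × List (ℕ × ℕ × ℕ × ℕ × ℕ × List ℕ) := ([69], 1, [(1, 0, 1, 3, 0, [])])
def pt3_7 : List ℕ × ℕ × List (ℕ × ℕ × ℕ × ℕ × ℕ × List ℕ) := ([75], 7, [(0, 2, 0, 0, 0, [71, 69]), (2, 1, 2, 0, 4, []), (0, 4, 0, 0, 0, [75, 78, 66]), (2, 0, 4, 3, 5, []), (0, 2, 0, 0, 0, [108, 61]), (2, 4, 2, 5, 6, []), (0, 6, 0, 0, 0, [96, 61]), (2, 5, 6, 3, 7, []), (1, 6, 2, 7, 0, [])])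
def pt3_8 : List ℕ × ℕ × List (ℕ × ℕ × ℕ × ℕ × ℕ × List ℕ) := ([81], 6, [(0, 2, 0, 0, 0, [80]), (2, 1, 2, 0, 4, []), (0, 4, 0, 0, 0, [71, 73, 63]), (2, 0, 4, 3, 5, []), (0, 2, 0, 0, 0, [85, 65, 63]), (2, 4, 2, 5, 6, []), (1, 5, 6, 3, 0, [])])
def pt3_9 : List ℕ × ℕ × List (ℕ × ℕ × ℕ × ℕ × ℕ × List ℕ) := ([82], 18, [(0, 1, 0, 0, 0, [84, 63, 62]), (2, 0, 1, 3, 4, []), (0, 2, 0, 0, 0, [118, 107, 72]), (2, 1, 2, 4, 5, []), (0, 5, 0, 0, 0, [95, 79, 61]), (2, 4, 5, 3, 6, []), (0, 2, 0, 0, 0, [70, 61]), (2, 5, 2, 6, 7, []), (0, 7, 0, 0, 0, [98, 76, 71]), (2, 6, 7, 3, 8, []), (0, 2, 0, 0, 0, [93, 112, 61]), (2, 7, 2, 8, 9, []), (0, 9, 0, 0, 0, [109, 117, 61]), (2, 8, 9, 3, 10, []), (0, 2, 0, 0, 0, [68, 118, 62]), (2, 9, 2, 10, 11, []), (0, 11, 0, 0, 0, [62,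 111, 64]), (2, 10, 11, 3, 12, []), (0, 2, 0, 0, 0, [120, 117, 83]), (2, 11, 2, 12, 13, []), (0, 13, 0, 0, 0, [96, 101, 64]), (2, 12, 13, 3, 14, []), (0, 2, 0, 0, 0, [71, 97, 64]), (2, 13, 2, 14, 15, []), (0, 15, 0, 0, 0, [68, 119, 71]), (2, 14, 15, 3, 16, []), (0, 2, 0, 0, 0, [110, 77, 83]), (2, 15, 2, 16, 17, []), (0, 17, 0, 0, 0, [115]), (2, 16, 17, 3, 18, []), (1, 17, 2, 18, 0, [])])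
def pt3_10 : List ℕ × ℕ × List (ℕ × ℕ × ℕ × ℕ × ℕ × List ℕ) := ([85], 1, [(1, 0, 1, 3, 0, [])])
def pt3_11 : List ℕ × ℕ × List (ℕ × ℕ × ℕ × ℕ × ℕ × List ℕ) := ([92], 10, [(0, 2, 0, 0, 0, [64, 72]), (2, 1, 2, 0, 4, []), (0, 4, 0, 0, 0, [78, 97, 64]), (2, 0, 4, 3, 5, []), (0, 2, 0, 0, 0, [112, 110, 61]), (2, 4, 2, 5, 6, []), (0, 6, 0, 0, 0, [63, 103]), (2, 5, 6, 3, 7, []), (0, 2, 0, 0, 0, [108, 67]), (2, 6, 2, 7, 8, []), (0, 8, 0, 0, 0, [103, 119, 71]), (2, 7, 8, 3, 9, []), (0, 2, 0, 0, 0, [105, 65, 62]), (2, 8, 2, 9, 10, []), (1, 9, 10, 3, 0, [])])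
def pt3_12 : List ℕ × ℕ × List (ℕ × ℕ × ℕ × ℕ × ℕ × List ℕ) := ([110], 16, [(0, 1, 0, 0, 0, [65, 106, 61]), (2, 0, 1, 3, 4, []), (0, 2, 0, 0, 0, [62, 103, 65]), (2, 1, 2, 4, 5, []), (0, 5, 0, 0, 0, [64, 73]), (2, 4, 5, 3, 6, []), (0, 5, 0, 0, 0, [69, 84]), (1, 5, 7, 2, 0, []), (1, 5, 7, 6, 0, []), (0, 7, 0, 0, 0, [112, 79, 62]), (2, 6, 7, 3, 8, []), (0, 2, 0, 0, 0, [84, 103, 72]), (2, 7, 2, 8, 9, []), (0, 9, 0, 0, 0, [90, 110, 75]), (2, 8, 9, 3, 10, []), (0, 2, 0, 0, 0, [86, 63, 62]), (2, 9, 2, 10, 11, []), (0, 11, 0, 0, 0, [82, 98, 62]), (2, 10, 11, 3, 12, []), (0, 2, 0, 0, 0, [68, 78, 70]), (2, 11, 2, 12, 13, []), (0, 13, 0, 0, 0, [67, 90]), (2, 12, 13, 3, 14, []), (0, 2, 0, 0, 0, [114, 63]), (2, 13, 2, 14, 15, []), (0, 15, 0, 0, 0, [104, 84]), (2,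 14, 15, 3, 16, []), (1, 15, 2, 16, 0, [])])
def pt3_13 : List ℕ × ℕ × List (ℕ × ℕ × ℕ × ℕ × ℕ × List ℕ) := ([118], 7, [(0, 1, 0, 0, 0, [72, 105, 79]), (2, 0, 1, 3, 4, []), (0, 2, 0, 0, 0, [63, 108, 68]), (2, 1, 2, 4, 5, []), (0, 5, 0, 0, 0, [70, 84, 69]), (2, 4, 5, 3, 6, []), (0, 2, 0, 0, 0, [91, 69]), (2, 5, 2, 6, 7, []), (1, 6, 7, 3, 0, [])])
def pt3_14 : List ℕ × ℕ × List (ℕ × ℕ × ℕ × ℕ × ℕ × List ℕ) := ([91, 61], 14, [(0, 2, 0, 0, 0, [120, 115, 62]), (2, 1, 2, 0, 4, []), (0, 4, 0, 0, 0, [105, 120]), (2, 0, 4, 3, 5, []), (0, 2, 0, 0, 0, [68, 120, 62]), (2, 4, 2, 5, 6, []), (0, 6, 0, 0, 0, [75, 108, 61]), (2, 5, 6, 3, 7, []), (0, 2, 0, 0, 0, [110, 83, 61]), (2, 6, 2, 7, 8, []), (0, 8, 0, 0, 0, [99, 73]), (2, 7, 8, 3, 9, []), (0, 2, 0, 0, 0, [106, 116,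 64]), (2, 8, 2, 9, 10, []), (0, 9, 0, 0, 0, [91, 114, 63]), (1, 9, 11, 10, 0, []), (1, 9, 11, 3, 0, []), (0, 2, 0, 0, 0, [110, 102, 75]), (2, 10, 2, 11, 12, []), (0, 12, 0, 0, 0, [75, 102, 62]), (2, 11, 12, 3, 13, []), (0, 12, 0, 0, 0, [68, 99]), (1, 12, 14, 2, 0, []), (1, 12, 14, 13, 0, []), (1, 13, 14, 3, 0, [])])
def PT3 : List (List ℕ × ℕ × List (ℕ × ℕ × ℕ × ℕ × ℕ × List ℕ)) := [pt3_0, pt3_1, pt3_2, pt3_3, pt3_4, pt3_5, pt3_6, pt3_7, pt3_8, pt3_9, pt3_10, pt3_11, pt3_12, pt3_13, pt3_14]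
def lr4 : List ℕ := [21, 23, 21, 55, 22, 23, 21]
def pt4_0 : List ℕ × ℕ × List (ℕ × ℕ × ℕ × ℕ × ℕ × List ℕ) := ([61], 5, [(0, 1, 0, 0, 0, [73, 115, 61]), (2, 0, 1, 3, 4, []), (0, 1, 0, 0, 0, [75, 111, 65]), (1, 1, 5, 2, 0, []), (1, 1, 5, 4, 0, []), (1, 4, 5, 3, 0, [])])
def pt4_1 : List ℕ × ℕ × List (ℕ × ℕ × ℕ × ℕ × ℕ × List ℕ) := ([62], 5, [(0, 1, 0, 0, 0, [67, 94]), (2, 0, 1, 3, 4, []), (0, 1, 0, 0, 0, [65, 71]), (1, 1, 5, 2, 0, []), (1, 1, 5, 4, 0, []), (1, 4, 5, 3, 0, [])])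
def pt4_2 : List ℕ × ℕ × List (ℕ × ℕ × ℕ × ℕ × ℕ × List ℕ) := ([63], 11, [(0, 1, 0, 0, 0, [108, 98]), (2, 0, 1, 3, 4, []), (0, 1, 0, 0, 0, [90, 107]), (1, 1, 5, 2, 0, []), (1, 1, 5, 4, 0, []), (0, 5, 0, 0, 0, [119, 94, 66]), (2, 4, 5, 3, 6, []), (0, 2, 0, 0, 0, [83, 111, 65]), (2, 5, 2, 6, 7, []), (0, 7, 0, 0, 0, [94, 109, 67]), (2, 6, 7, 3, 8, []), (0, 2, 0, 0, 0, [65, 76, 61]), (2, 7, 2, 8, 9, []), (0, 9, 0, 0, 0, [77, 106, 65]), (2, 8, 9, 3, 10, []), (0, 2, 0, 0, 0, [85, 114, 61]), (2, 9, 2, 10, 11, []), (1, 10, 11, 3, 0, [])])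
def pt4_3 : List ℕ × ℕ × List (ℕ × ℕ × ℕ × ℕ × ℕ × List ℕ) := ([64], 4, [(0, 1, 0, 0, 0, [76]), (2, 0, 1, 3, 4, []), (1, 1, 2, 4, 0, [])])
def pt4_4 : List ℕ × ℕ × List (ℕ × ℕ × ℕ × ℕ × ℕ × List ℕ) := ([66], 1, [(1, 0, 1, 3, 0, [])])
def pt4_5 : List ℕ × ℕ × List (ℕ × ℕ × ℕ × ℕ × ℕ × List ℕ) := ([67], 15, [(0, 1, 0, 0, 0, [73, 108, 61]), (2, 0, 1, 3, 4, []), (0, 2, 0, 0, 0, [72, 99, 62]), (2, 1, 2, 4, 5, []), (0, 5, 0, 0, 0, [99, 115, 61]), (2, 4, 5, 3, 6, []), (0, 2, 0, 0, 0, [69, 116]), (2, 5, 2, 6, 7, []), (0, 7, 0, 0, 0, [90, 111, 67]), (2, 6, 7, 3, 8, []), (0, 2, 0, 0, 0, [74, 102]), (2, 7, 2, 8, 9, []), (0, 9, 0, 0, 0, [120, 105, 65]), (2, 8, 9, 3, 10, []), (0, 2, 0, 0, 0, [69, 108, 72]), (2, 9, 2, 10, 11, []), (0, 11, 0, 0, 0, [72, 79, 61]), (2,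 10, 11, 3, 12, []), (0, 2, 0, 0, 0, [99, 63, 62]), (2, 11, 2, 12, 13, []), (0, 13, 0, 0, 0, [71, 65, 61]), (2, 12, 13, 3, 14, []), (0, 2, 0, 0, 0, [71, 88, 67]), (2, 13, 2, 14, 15, []), (1, 14, 15, 3, 0, [])])
def pt4_6 : List ℕ × ℕ × List (ℕ × ℕ × ℕ × ℕ × ℕ × List ℕ) := ([68], 20, [(0, 2, 0, 0, 0, [94, 80]), (2, 1, 2, 0, 4, []), (0, 4, 0, 0, 0, [110, 71, 61]), (2, 0, 4, 3, 5, []), (0, 2, 0, 0, 0, [83, 101, 67]), (2, 4, 2, 5, 6, []), (0, 6, 0, 0, 0, [95, 104, 66]), (2, 5, 6, 3, 7, []), (0, 2, 0, 0, 0, [116, 93, 70]), (2, 6, 2, 7, 8, []), (0, 8, 0, 0, 0, [66, 64, 65]), (2, 7, 8, 3, 9, []), (0, 2, 0, 0, 0, [75, 97, 66]), (2, 8, 2, 9, 10, []), (0, 10, 0, 0, 0, [112, 78, 63]), (2, 9, 10, 3, 11, []), (0, 2, 0, 0, 0, [79, 90, 65]), (2, 10, 2, 11, 12, []),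 (0, 12, 0, 0, 0, [88, 112]), (2, 11, 12, 3, 13, []), (0, 2, 0, 0, 0, [97, 111, 65]), (2, 12, 2, 13, 14, []), (0, 14, 0, 0, 0, [118, 79, 67]), (2, 13, 14, 3, 15, []), (0, 2, 0, 0, 0, [110, 118, 63]), (2, 14, 2, 15, 16, []), (0, 16, 0, 0, 0, [72, 86, 65]), (2, 15, 16, 3, 17, []), (0, 2, 0, 0, 0, [98, 109, 66]), (2, 16, 2, 17, 18, []), (0, 18, 0, 0, 0, [119, 79, 66]), (2, 17, 18, 3, 19, []), (0, 2, 0, 0, 0, [119, 88]), (2, 18, 2, 19, 20, []), (1, 19, 20, 3, 0, [])])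
def pt4_7 : List ℕ × ℕ × List (ℕ × ℕ × ℕ × ℕ × ℕ × List ℕ) := ([71], 13, [(0, 2, 0, 0, 0, [101, 68, 71]), (2, 1, 2, 0, 4, []), (0, 4, 0, 0, 0, [73, 118, 67]), (2, 0, 4, 3, 5, []), (0, 2, 0, 0, 0, [97, 63, 62]), (2, 4, 2, 5, 6, []), (0, 6, 0, 0, 0, [113, 74, 62]), (2, 5, 6, 3, 7, []), (0, 2, 0, 0, 0, [82, 101, 70]), (2, 6, 2, 7, 8, []), (0, 8, 0, 0, 0, [104, 69, 66]), (2, 7, 8, 3, 9, []), (0, 2, 0, 0, 0, [64, 87, 67]), (2, 8, 2, 9, 10, []), (0, 10, 0, 0, 0, [93, 84, 64]), (2, 9, 10, 3, 11, []), (0, 2, 0, 0, 0, [78, 102, 62]), (2, 10, 2, 11, 12, []), (0, 12, 0, 0, 0, [73, 96, 61]), (2, 11, 12, 3, 13, []), (1, 12, 2, 13, 0, [])])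
def pt4_8 : List ℕ × ℕ × List (ℕ × ℕ × ℕ × ℕ × ℕ × List ℕ) := ([73], 9, [(0, 2, 0, 0, 0, [101, 68, 71]), (2, 1, 2, 0, 4, []), (0, 4, 0, 0, 0, [63, 117, 64]), (2, 0, 4, 3, 5, []), (0, 2, 0, 0, 0, [87, 114, 64]), (2, 4, 2, 5, 6, []), (0, 6, 0, 0, 0, [106, 71]), (2, 5, 6, 3, 7, []), (0, 2, 0, 0, 0, [97, 90, 61]), (2, 6, 2, 7, 8, []), (0, 8, 0, 0, 0, [117, 77]), (2, 7, 8, 3, 9, []), (1, 8, 2, 9, 0, [])])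
def pt4_9 : List ℕ × ℕ × List (ℕ × ℕ × ℕ × ℕ × ℕ × List ℕ) := ([74], 10, [(0, 2, 0, 0, 0, [68, 82, 76]), (2, 1, 2, 0, 4, []), (0, 4, 0, 0, 0, [70, 65, 61]), (2, 0, 4, 3, 5, []), (0, 2, 0, 0, 0, [101, 114, 82]), (2, 4, 2, 5, 6, []), (0, 6, 0, 0, 0, [66, 106, 63]), (2, 5, 6, 3, 7, []), (0, 2, 0, 0, 0, [115, 67, 61]), (2, 6, 2, 7, 8, []), (0, 8, 0, 0, 0, [75]), (2, 7, 8, 3, 9, []), (0, 2, 0, 0, 0, [105, 78, 75]), (2, 8, 2, 9, 10, []), (1, 9, 10, 3, 0, [])])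
def pt4_10 : List ℕ × ℕ × List (ℕ × ℕ × ℕ × ℕ × ℕ × List ℕ) := ([75], 9, [(0, 1, 0, 0, 0, [113, 117, 62]), (2, 0, 1, 3, 4, []), (0, 2, 0, 0, 0, [82, 98]), (2, 1, 2, 4, 5, []), (0, 5, 0, 0, 0, [105, 95, 64]), (2, 4, 5, 3, 6, []), (0, 2, 0, 0, 0, [61, 90]), (2, 5, 2, 6, 7, []), (0, 7, 0, 0, 0, [75, 97, 62]), (2, 6, 7, 3, 8, []), (0, 2, 0, 0, 0, [100, 94]), (2, 7, 2, 8, 9, []), (1, 8, 9, 3, 0, [])])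
def pt4_11 : List ℕ × ℕ × List (ℕ × ℕ × ℕ × ℕ × ℕ × List ℕ) := ([77], 1, [(1, 0, 1, 3, 0, [])])
def pt4_12 : List ℕ × ℕ × List (ℕ × ℕ × ℕ × ℕ × ℕ × List ℕ) := ([79], 23, [(0, 2, 0, 0, 0, [101, 68, 71]), (2, 1, 2, 0, 4, []), (0, 4, 0, 0, 0, [101, 90, 84]), (2, 0, 4, 3, 5, []), (0, 2, 0, 0, 0, [86, 79, 65]), (2, 4, 2, 5, 6, []), (0, 5, 0, 0, 0, [99, 85, 68]), (1, 5, 7, 6, 0, []), (1, 5, 7, 3, 0, []), (0, 2, 0, 0, 0, [85, 88, 61]), (2, 6, 2, 7, 8, []), (0, 8, 0, 0, 0, [97, 77, 63]), (2, 7, 8, 3, 9, []), (0, 2, 0, 0, 0, [102, 119, 65]), (2, 8, 2, 9, 10, []), (0, 10, 0, 0, 0, [114, 67, 65]), (2, 9, 10, 3, 11, []), (0, 2, 0, 0, 0, [118, 106]), (2, 10, 2, 11, 12, []), (0, 12, 0, 0, 0, [117, 112, 64]), (2, 11, 12, 3, 13, []), (0, 2, 0, 0, 0, [95, 93, 67]), (2,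 12, 2, 13, 14, []), (0, 14, 0, 0, 0, [105, 104, 61]), (2, 13, 14, 3, 15, []), (0, 2, 0, 0, 0, [87, 106]), (2, 14, 2, 15, 16, []), (0, 16, 0, 0, 0, [96, 110, 64]), (2, 15, 16, 3, 17, []), (0, 2, 0, 0, 0, [98, 78]), (2, 16, 2, 17, 18, []), (0, 18, 0, 0, 0, [98, 95]), (2, 17, 18, 3, 19, []), (0, 2, 0, 0, 0, [92, 114, 64]), (2, 18, 2, 19, 20, []), (0, 20, 0, 0, 0, [101, 69, 87]), (2, 19, 20, 3, 21, []), (0, 20, 0, 0, 0, [68, 99]), (1, 20, 22, 2, 0, []), (1, 20, 22, 21, 0, []), (0, 22, 0, 0, 0, [92, 119, 62]), (2, 21, 22, 3, 23, []), (1, 22, 2, 23, 0, [])])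
def pt4_13 : List ℕ × ℕ × List (ℕ × ℕ × ℕ × ℕ × ℕ × List ℕ) := ([81], 7, [(0, 1, 0, 0, 0, [101, 120, 62]), (2, 0, 1, 3, 4, []), (0, 2, 0, 0, 0, [117, 75]), (2, 1, 2, 4, 5, []), (0, 5, 0, 0, 0, [111, 95, 75]), (2, 4, 5, 3, 6, []), (0, 2, 0, 0, 0, [92, 71, 61]), (2, 5, 2, 6, 7, []), (1, 6, 7, 3, 0, [])])
def pt4_14 : List ℕ × ℕ × List (ℕ × ℕ × ℕ × ℕ × ℕ × List ℕ) := ([83], 11, [(0, 1, 0, 0, 0, [96, 101]), (2, 0, 1, 3, 4, []), (0, 2, 0, 0, 0, [79, 81, 62]), (2, 1, 2, 4, 5, []), (0, 5, 0, 0, 0, [114, 102, 66]), (2, 4, 5, 3, 6, []), (0, 2, 0, 0, 0, [77, 94, 61]), (2, 5, 2, 6, 7, []), (0, 7, 0, 0, 0, [117, 92]), (2, 6, 7, 3, 8, []), (0, 2, 0, 0, 0, [86, 89, 62]), (2, 7, 2, 8, 9, []), (0, 9, 0, 0, 0, [113, 87, 61]), (2, 8, 9, 3, 10, []), (0, 2, 0, 0, 0, [120,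 80, 64]), (2, 9, 2, 10, 11, []), (1, 10, 11, 3, 0, [])])
def pt4_15 : List ℕ × ℕ × List (ℕ × ℕ × ℕ × ℕ × ℕ × List ℕ) := ([85], 1, [(1, 0, 1, 3, 0, [])])
def pt4_16 : List ℕ × ℕ × List (ℕ × ℕ × ℕ × ℕ × ℕ × List ℕ) := ([89], 1, [(1, 0, 1, 3, 0, [])])
def pt4_17 : List ℕ × ℕ × List (ℕ × ℕ × ℕ × ℕ × ℕ × List ℕ) := ([92], 13, [(0, 1, 0, 0, 0, [82, 68, 62]), (2, 0, 1, 3, 4, []), (0, 2, 0, 0, 0, [84, 96, 67]), (2, 1, 2, 4, 5, []), (0, 5, 0, 0, 0, [88, 79, 61]), (2, 4, 5, 3, 6, []), (0, 5, 0, 0, 0, [90, 80]), (1, 5, 7, 2, 0, []), (1, 5, 7, 6, 0, []), (0, 7, 0, 0, 0, [115, 103, 62]), (2, 6, 7, 3, 8, []), (0, 2, 0, 0, 0, [66, 106, 61]), (2, 7, 2, 8, 9, []), (0, 9, 0, 0, 0, [114, 80, 65]), (2, 8, 9, 3, 10, []), (0, 2, 0, 0, 0, [65, 83, 62]), (2, 9, 2, 10, 11, []),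 (0, 11, 0, 0, 0, [116, 91, 71]), (2, 10, 11, 3, 12, []), (0, 2, 0, 0, 0, [113, 71, 62]), (2, 11, 2, 12, 13, []), (1, 12, 13, 3, 0, [])])
def pt4_18 : List ℕ × ℕ × List (ℕ × ℕ × ℕ × ℕ × ℕ × List ℕ) := ([95], 18, [(0, 1, 0, 0, 0, [79, 95]), (2, 0, 1, 3, 4, []), (0, 2, 0, 0, 0, [118, 99]), (2, 1, 2, 4, 5, []), (0, 4, 0, 0, 0, [71, 105, 64]), (1, 4, 6, 5, 0, []), (1, 4, 6, 3, 0, []), (0, 2, 0, 0, 0, [65, 114, 68]), (2, 5, 2, 6, 7, []), (0, 7, 0, 0, 0, [71, 77, 79]), (2, 6, 7, 3, 8, []), (0, 2, 0, 0, 0, [80, 111]), (2, 7, 2, 8, 9, []), (0, 9, 0, 0, 0, [64, 67, 63]), (2, 8, 9, 3, 10, []), (0, 2, 0, 0, 0, [103, 81, 61]), (2, 9, 2, 10, 11, []), (0, 11, 0, 0, 0, [86, 61, 65]), (2, 10, 11, 3, 12, []), (0, 2, 0, 0, 0, [85, 88, 63]), (2, 11, 2, 12, 13, []), (0,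 13, 0, 0, 0, [80, 113, 64]), (2, 12, 13, 3, 14, []), (0, 2, 0, 0, 0, [113, 73, 61]), (2, 13, 2, 14, 15, []), (0, 15, 0, 0, 0, [75, 73, 63]), (2, 14, 15, 3, 16, []), (0, 2, 0, 0, 0, [93, 74, 61]), (2, 15, 2, 16, 17, []), (0, 17, 0, 0, 0, [69, 89]), (2, 16, 17, 3, 18, []), (1, 17, 2, 18, 0, [])])
def pt4_19 : List ℕ × ℕ × List (ℕ × ℕ × ℕ × ℕ × ℕ × List ℕ) := ([97], 8, [(0, 1, 0, 0, 0, [118, 81]), (2, 0, 1, 3, 4, []), (0, 2, 0, 0, 0, [63, 83, 81]), (2, 1, 2, 4, 5, []), (0, 5, 0, 0, 0, [69, 98, 76]), (2, 4, 5, 3, 6, []), (0, 2, 0, 0, 0, [65, 71, 61]), (2, 5, 2, 6, 7, []), (0, 7, 0, 0, 0, [104, 118, 71]), (2, 6, 7, 3, 8, []), (1, 7, 2, 8, 0, [])])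
def pt4_20 : List ℕ × ℕ × List (ℕ × ℕ × ℕ × ℕ × ℕ × List ℕ) := ([108], 9, [(0, 1, 0, 0, 0, [105, 91, 61]), (2, 0, 1, 3, 4, []), (0, 1, 0, 0, 0, [76, 72, 68]), (1, 1, 5, 2, 0, []), (1, 1, 5, 4, 0, []), (0, 5, 0, 0, 0, [99, 71, 63]), (2, 4, 5, 3, 6, []), (0, 2, 0, 0, 0, [113, 82]), (2, 5, 2, 6, 7, []), (0, 7, 0, 0, 0, [68, 76]), (2, 6, 7, 3, 8, []), (0, 2, 0, 0, 0, [111, 99, 62]), (2, 7, 2, 8, 9, []), (1, 8, 9, 3, 0, [])])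
def pt4_21 : List ℕ × ℕ × List (ℕ × ℕ × ℕ × ℕ × ℕ × List ℕ) := ([113], 14, [(0, 2, 0, 0, 0, [68, 82, 76]), (2, 1, 2, 0, 4, []), (0, 4, 0, 0, 0, [118, 75, 62]), (2, 0, 4, 3, 5, []), (0, 2, 0, 0, 0, [119, 116, 62]), (2, 4, 2, 5, 6, []), (0, 6, 0, 0, 0, [120, 89, 82]), (2, 5, 6, 3, 7, []), (0, 2, 0, 0, 0, [112, 118, 65]), (2, 6, 2, 7, 8, []), (0, 8, 0, 0, 0, [116, 88, 61]), (2, 7, 8, 3, 9, []), (0, 2, 0, 0, 0, [112, 114, 62]), (2, 8, 2, 9, 10, []), (0, 10, 0, 0, 0, [112, 94, 70]), (2, 9, 10, 3, 11, []), (0, 2, 0, 0, 0, [75, 79]), (2, 10, 2, 11, 12, []), (0, 12, 0, 0, 0, [102, 101, 67]), (2, 11, 12, 3, 13, []), (0, 2, 0, 0, 0, [74, 100, 61]), (2, 12, 2, 13, 14, []), (1, 13, 14, 3, 0, [])])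
def pt4_22 : List ℕ × ℕ × List (ℕ × ℕ × ℕ × ℕ × ℕ × List ℕ) := ([114], 6, [(0, 1, 0, 0, 0, [101, 84]), (2, 0, 1, 3, 4, []), (0, 2, 0, 0, 0, [75, 91, 62]), (2, 1, 2, 4, 5, []), (0, 5, 0, 0, 0, [90, 93]), (2, 4, 5, 3, 6, []), (1, 5, 2, 6, 0, [])])
def pt4_23 : List ℕ × ℕ × List (ℕ × ℕ × ℕ × ℕ × ℕ × List ℕ) := ([120], 6, [(0, 1, 0, 0, 0, [71, 107]), (2, 0, 1, 3, 4, []), (0, 2, 0, 0, 0, [106, 82, 67]), (2, 1, 2, 4, 5, []), (0, 4, 0, 0, 0, [90, 69]), (1, 4, 6, 5, 0, []), (1, 4, 6, 3, 0, []), (1, 5, 2, 6, 0, [])])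
def pt4_24 : List ℕ × ℕ × List (ℕ × ℕ × ℕ × ℕ × ℕ × List ℕ) := ([68, 61], 9, [(0, 1, 0, 0, 0, [64, 65, 68]), (2, 0, 1, 3, 4, []), (0, 2, 0, 0, 0, [79, 85, 65]), (2, 1, 2, 4, 5, []), (0, 5, 0, 0, 0, [88, 78, 63]), (2, 4, 5, 3, 6, []), (0, 2, 0, 0, 0, [85, 70]), (2, 5, 2, 6, 7, []), (0, 7, 0, 0, 0, [86, 92, 67]), (2, 6, 7, 3, 8, []), (0, 2, 0, 0, 0, [91, 103, 61]), (2, 7, 2, 8, 9, []), (1, 8, 9, 3, 0, [])])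
def pt4_25 : List ℕ × ℕ × List (ℕ × ℕ × ℕ × ℕ × ℕ × List ℕ) := ([70, 61], 24, [(0, 2, 0, 0, 0, [115, 111, 61]), (2, 1, 2, 0, 4, []), (0, 4, 0, 0, 0, [113, 64, 62]), (2, 0, 4, 3, 5, []), (0, 2, 0, 0, 0, [73, 70, 63]), (2, 4, 2, 5, 6, []), (0, 6, 0, 0, 0, [86, 109, 61]), (2, 5, 6, 3, 7, []), (0, 2, 0, 0, 0, [93, 63, 71]), (2, 6, 2, 7, 8, []), (0, 8, 0, 0, 0, [86, 79, 66]), (2, 7, 8, 3, 9, []), (0, 2, 0, 0, 0, [80, 71]), (2, 8, 2, 9, 10, []), (0, 10, 0, 0, 0, [118, 106, 61]), (2, 9, 10, 3, 11, []), (0, 2, 0, 0, 0, [106, 107, 61]), (2, 10, 2, 11, 12, []), (0, 12, 0, 0, 0, [118, 66]), (2, 11, 12, 3, 13, []), (0, 2, 0, 0, 0, [61, 90, 63]), (2, 12, 2, 13, 14, []), (0, 14, 0, 0, 0, [61, 95, 68]), (2, 13, 14, 3, 15, []), (0, 2, 0, 0, 0, [104, 82, 63]), (2, 14,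 2, 15, 16, []), (0, 16, 0, 0, 0, [76, 89]), (2, 15, 16, 3, 17, []), (0, 2, 0, 0, 0, [61, 69, 67]), (2, 16, 2, 17, 18, []), (0, 18, 0, 0, 0, [73, 68, 65]), (2, 17, 18, 3, 19, []), (0, 2, 0, 0, 0, [102, 118, 64]), (2, 18, 2, 19, 20, []), (0, 20, 0, 0, 0, [85, 105, 68]), (2, 19, 20, 3, 21, []), (0, 2, 0, 0, 0, [93, 76, 74]), (2, 20, 2, 21, 22, []), (0, 22, 0, 0, 0, [81, 103, 72]), (2, 21, 22, 3, 23, []), (0, 2, 0, 0, 0, [74, 93, 87]), (2, 22, 2, 23, 24, []), (1, 23, 24, 3, 0, [])])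
def pt4_26 : List ℕ × ℕ × List (ℕ × ℕ × ℕ × ℕ × ℕ × List ℕ) := ([76, 61], 13, [(0, 1, 0, 0, 0, [92, 76, 61]), (2, 0, 1, 3, 4, []), (0, 2, 0, 0, 0, [106, 97, 70]), (2, 1, 2, 4, 5, []), (0, 5, 0, 0, 0, [116, 84, 61]), (2, 4, 5, 3, 6, []), (0, 2, 0, 0, 0, [83, 101, 61]), (2, 5, 2, 6, 7, []), (0, 7, 0, 0, 0, [78, 106]), (2, 6, 7, 3, 8, []), (0, 2, 0, 0, 0, [99, 68, 61]), (2, 7, 2, 8, 9, []), (0, 9, 0, 0, 0, [94, 87, 68]), (2, 8, 9, 3, 10, []), (0, 2, 0, 0, 0, [74, 108, 64]), (2, 9, 2, 10, 11, []), (0, 11, 0, 0, 0, [92, 112]), (2, 10, 11, 3, 12, []), (0, 2, 0, 0, 0, [111, 110, 65]), (2, 11, 2, 12, 13, []), (1, 12, 13, 3, 0, [])])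
def pt4_27 : List ℕ × ℕ × List (ℕ × ℕ × ℕ × ℕ × ℕ × List ℕ) := ([83, 61], 10, [(0, 2, 0, 0, 0, [93, 87, 64]), (2, 1, 2, 0, 4, []), (0, 4, 0, 0, 0, [115, 62]), (2, 0, 4, 3, 5, []), (0, 2, 0, 0, 0, [84, 119, 69]), (2, 4, 2, 5, 6, []), (0, 6, 0, 0, 0, [108, 91]), (2, 5, 6, 3, 7, []), (0, 2, 0, 0, 0, [88, 83, 61]), (2, 6, 2, 7, 8, []), (0, 8, 0, 0, 0, [75, 70, 65]), (2, 7, 8, 3, 9, []), (0, 2, 0, 0, 0, [90, 115, 65]), (2, 8, 2, 9, 10, []), (1, 9, 10, 3, 0, [])])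
def pt4_28 : List ℕ × ℕ × List (ℕ × ℕ × ℕ × ℕ × ℕ × List ℕ) := ([89, 61], 1, [(1, 0, 1, 3, 0, [])])
def pt4_29 : List ℕ × ℕ × List (ℕ × ℕ × ℕ × ℕ × ℕ × List ℕ) := ([96, 61], 1, [(1, 0, 1, 3, 0, [])])
def pt4_30 : List ℕ × ℕ × List (ℕ × ℕ × ℕ × ℕ × ℕ × List ℕ) := ([109, 61], 5, [(0, 1, 0, 0, 0, [103, 61, 76]), (2, 0, 1, 3, 4, []), (0, 2, 0, 0, 0, [104, 106, 65]), (2, 1, 2, 4, 5, []), (1, 4, 5, 3, 0, [])])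
def pt4_31 : List ℕ × ℕ × List (ℕ × ℕ × ℕ × ℕ × ℕ × List ℕ) := ([113, 61], 9, [(0, 1, 0, 0, 0, [108, 91]), (2, 0, 1, 3, 4, []), (0, 2, 0, 0, 0, [68, 63, 85]), (2, 1, 2, 4, 5, []), (0, 5, 0, 0, 0, [95, 68, 72]), (2, 4, 5, 3, 6, []), (0, 2, 0, 0, 0, [69, 95]), (2, 5, 2, 6, 7, []), (0, 7, 0, 0, 0, [100, 73, 64]), (2, 6, 7, 3, 8, []), (0, 2, 0, 0, 0, [82, 92, 65]), (2, 7, 2, 8, 9, []), (1, 8, 9, 3, 0, [])])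
def pt4_32 : List ℕ × ℕ × List (ℕ × ℕ × ℕ × ℕ × ℕ × List ℕ) := ([116, 61], 4, [(0, 2, 0, 0, 0, [109, 118, 61]), (2, 1, 2, 0, 4, []), (1, 0, 4, 3, 0, [])])
def pt4_33 : List ℕ × ℕ × List (ℕ × ℕ × ℕ × ℕ × ℕ × List ℕ) := ([119, 61], 4, [(0, 2, 0, 0, 0, [110, 70, 61]), (2, 1, 2, 0, 4, []), (1, 0, 4, 3, 0, [])])
def pt4_34 : List ℕ × ℕ × List (ℕ × ℕ × ℕ × ℕ × ℕ × List ℕ) := ([79, 62], 7, [(0, 2, 0, 0, 0, [71, 103, 66]), (2, 1, 2, 0, 4, []), (0, 4, 0, 0, 0, [99, 61, 85]), (2, 0, 4, 3, 5, []), (0, 2, 0, 0, 0, [62, 89, 69]), (2, 4, 2, 5, 6, []), (0, 6, 0, 0, 0, [104, 97]), (2, 5, 6, 3, 7, []), (1, 6, 2, 7, 0, [])])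
def pt4_35 : List ℕ × ℕ × List (ℕ × ℕ × ℕ × ℕ × ℕ × List ℕ) := ([93, 62], 4, [(0, 2, 0, 0, 0, [115, 111, 61]), (2, 1, 2, 0, 4, []), (1, 0, 4, 3, 0, [])])
def pt4_36 : List ℕ × ℕ × List (ℕ × ℕ × ℕ × ℕ × ℕ × List ℕ) := ([86, 64], 9, [(0, 1, 0, 0, 0, [112, 85, 69]), (2, 0, 1, 3, 4, []), (0, 2, 0, 0, 0, [93, 117, 66]), (2, 1, 2, 4, 5, []), (0, 5, 0, 0, 0, [108, 91, 65]), (2, 4, 5, 3, 6, []), (0, 2, 0, 0, 0, [68, 66, 61]), (2, 5, 2, 6, 7, []), (0, 7, 0, 0, 0, [120, 116, 61]), (2, 6, 7, 3, 8, []), (0, 2, 0, 0, 0, [79, 78, 63]), (2, 7, 2, 8, 9, []), (1, 8, 9, 3, 0, [])])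
def PT4 : List (List ℕ × ℕ × List (ℕ × ℕ × ℕ × ℕ × ℕ × List ℕ)) := [pt4_0, pt4_1, pt4_2, pt4_3, pt4_4, pt4_5, pt4_6, pt4_7, pt4_8, pt4_9, pt4_10, pt4_11, pt4_12, pt4_13, pt4_14, pt4_15, pt4_16, pt4_17, pt4_18, pt4_19, pt4_20, pt4_21, pt4_22, pt4_23, pt4_24, pt4_25, pt4_26, pt4_27, pt4_28, pt4_29, pt4_30, pt4_31, pt4_32, pt4_33, pt4_34, pt4_35, pt4_36]
def sq4 : List (ℕ × ℕ × ℕ × ℕ × ℕ × List ℕ) := [(0, 2, 0, 0, 0, [66, 68]), (1, 2, 4, 1, 0, []), (0, 4, 0, 0, 0, [80, 62, 67]), (2, 1, 4, 0, 5, []), (0, 2, 0, 0, 0, [73, 71, 61]), (2, 4, 2, 5, 6, []), (0, 6, 0, 0, 0, [76, 99, 63]), (2, 5, 6, 0, 7, []), (0, 2, 0, 0, 0, [115, 99, 76]), (2, 6, 2, 7, 8, []), (1, 7, 8, 0, 0, [])]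
end CfsgLY
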